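import Groth.Agent.SiteCmpLib.Secs.Derived
import Groth.Agent.TriCat.RightDerivedBridge
import Mathlib.CategoryTheory.Triangulated.Adjunction
import Mathlib.CategoryTheory.Abelian.GrothendieckCategory.EnoughInjectives

/-!
# Basic properties of the unbounded right derived functor
-/

set_option autoImplicit false

universe w w' v u' v' u''

open CategoryTheory CategoryTheory.Limits DerivedCategory Pretriangulated

namespace Groth.Agent.SiteCmpLib.Secs

variable {A : Type u'} [Category.{v} A] [Abelian A] [IsGrothendieckAbelian.{v} A]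
  [HasDerivedCategory.{w} A] {B : Type u''} [Category.{v'} B] [Abelian B]
  [HasDerivedCategory.{w'} B] (G : A ⥤ B) [G.Additive]
  [(G.mapHomotopyCategory (ComplexShape.up ℤ) ⋙ Qh).HasRightDerivedFunctor
      (HomotopyCategory.quasiIso A (ComplexShape.up ℤ))]

theorem exists_commShift_RG :
    ∃ (R' : DerivedCategory A ⥤ DerivedCategory B) (_ : R'.CommShift ℤ),
      R'.IsTriangulated ∧ Nonempty (R' ≅ RG G) := by
  have := TriCat.qh_isLeftAdjoint_of_exists_resolution (A := A) fun L => by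
    obtain ⟨I, f, hI, hf, -, -⟩ := TriCat.exists_kInjective_resolution' L
    exact ⟨I, f, hI, hf⟩
  let adjQ := Adjunction.ofIsLeftAdjoint (Qh (C := A))
  let W := HomotopyCategory.quasiIso A (ComplexShape.up ℤ)
  let F := G.mapHomotopyCategory (ComplexShape.up ℤ) ⋙ Qh
  let ρ := (Qh (C := A)).rightAdjoint
  have : (ρ ⋙ F).IsRightDerivedFunctor (Functor.whiskerRight adjQ.unit F) W :=
    TriCat.isRightDerivedFunctor_of_adjunction adjQ W F
  let _ : ρ.CommShift ℤ := adjQ.rightAdjointCommShift ℤ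
  have : adjQ.CommShift ℤ := adjQ.commShift_of_leftAdjoint ℤ
  have : ρ.IsTriangulated := adjQ.isTriangulated_rightAdjoint
  exact ⟨ρ ⋙ G.mapHomotopyCategory (ComplexShape.up ℤ) ⋙ Qh, inferInstance, inferInstance,
    ⟨Functor.rightDerivedUnique (ρ ⋙ F) (RG G)
      (Functor.whiskerRight adjQ.unit F : F ⟶ Qh ⋙ ρ ⋙ F) (F.totalRightDerivedUnit Qh W) W⟩⟩

/-- `RG` sends distinguished triangles to distinguished triangles. -/
theorem exists_distinguished_RG (T : Triangle (DerivedCategory A)) (hT : T ∈ distTriang _) :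
    ∃ δ : (RG G).obj T.obj₃ ⟶ ((RG G).obj T.obj₁)⟦(1 : ℤ)⟧,
      Triangle.mk ((RG G).map T.mor₁) ((RG G).map T.mor₂) δ ∈ distTriang _ := by
  obtain ⟨R', _, _, ⟨e⟩⟩ := exists_commShift_RG G
  refine ⟨e.inv.app _ ≫ R'.map T.mor₃ ≫ (R'.commShiftIso (1 : ℤ)).hom.app _ ≫
    (shiftFunctor _ (1 : ℤ)).map (e.hom.app _), isomorphic_distinguished _ (R'.map_distinguished T hT) _ ?_⟩
  refine Triangle.isoMk _ _ (e.symm.app _) (e.symm.app _) (e.symm.app _) (e.inv.naturality _)
    (e.inv.naturality _) ?_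
  change (e.inv.app _ ≫ R'.map T.mor₃ ≫ (R'.commShiftIso (1 : ℤ)).hom.app _ ≫
    (shiftFunctor _ (1 : ℤ)).map (e.hom.app _)) ≫ (shiftFunctor _ (1 : ℤ)).map (e.inv.app _) =
    e.inv.app _ ≫ R'.map T.mor₃ ≫ (R'.commShiftIso (1 : ℤ)).hom.app _
  simp only [Category.assoc, ← Functor.map_comp, Iso.hom_inv_id_app, CategoryTheory.Functor.map_id]
  erw [Category.comp_id]

lemma nonempty_shift_RG (X : DerivedCategory A) (n : ℤ) :
    Nonempty ((RG G).obj (X⟦n⟧) ≅ ((RG G).obj X)⟦n⟧) := by
  obtain ⟨R', _, _, ⟨e⟩⟩ := exists_commShift_RG G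
  exact ⟨(e.app _).symm ≪≫ (R'.commShiftIso n).app X ≪≫ (shiftFunctor _ n).mapIso (e.app X)⟩

lemma nonempty_homology_RG_single (M : A) :
    (∀ p : ℕ, Nonempty ((homologyFunctor B (p : ℤ)).obj ((RG G).obj ((singleFunctor A 0).obj M)) ≅
      (G.rightDerived p).obj M)) ∧
    ∀ i : ℤ, i < 0 → IsZero ((homologyFunctor B i).obj ((RG G).obj ((singleFunctor A 0).obj M))) := by
  obtain ⟨R⟩ : Nonempty (InjectiveResolution M) := ⟨InjectiveResolution.of M⟩
  have hK : R.cochainComplex.IsKInjective := CochainComplex.isKInjective_of_injective _ 0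
  have hι : IsIso (DerivedCategory.Q.map R.ι') :=
    Localization.inverts DerivedCategory.Q (HomologicalComplex.quasiIso A (ComplexShape.up ℤ)) _
      (by rw [HomologicalComplex.mem_quasiIso_iff]; exact inferInstanceAs (QuasiIso R.ι'))
  let F := G.mapHomotopyCategory (ComplexShape.up ℤ) ⋙ Qh
  have hu := isIso_unit_of_kInj F R.cochainComplex
  let a : (singleFunctor A 0).obj M ≅ Q.obj R.cochainComplex :=
    @asIso _ _ _ _ (DerivedCategory.Q.map R.ι') hι
  let E : (RG G).obj ((singleFunctor A 0).obj M) ≅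
      Q.obj ((G.mapHomologicalComplex (ComplexShape.up ℤ)).obj R.cochainComplex) :=
    (RG G).mapIso (a ≪≫ ((quotientCompQhIso A).symm.app R.cochainComplex)) ≪≫
      (@asIso _ _ _ _ _ hu).symm ≪≫
      (quotientCompQhIso B).app ((G.mapHomologicalComplex (ComplexShape.up ℤ)).obj R.cochainComplex)
  let e := fun i : ℤ => (homologyFunctor B i).mapIso E ≪≫
    (homologyFunctorFactors B i).app
      ((G.mapHomologicalComplex (ComplexShape.up ℤ)).obj R.cochainComplex)
  refine ⟨fun p => ⟨e p ≪≫ TriCat.homologyResIso G R p ≪≫ (R.isoRightDerivedObj G p).symm⟩,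
    fun i hi => IsZero.of_iso ?_ (e i)⟩
  have : R.cochainComplex.IsStrictlyGE 0 := inferInstance
  exact ShortComplex.isZero_homology_of_isZero_X₂ _
    (G.map_isZero (R.cochainComplex.isZero_of_isStrictlyGE 0 i hi))

/-- Vanishing of the cohomology of `RG` on an object concentrated in one degree. -/
lemma isZero_homology_RG_single (M : A) (N : ℤ)
    (h : ∀ p : ℕ, N < (p : ℤ) → IsZero ((G.rightDerived p).obj M)) (a i : ℤ) (hi : N + a < i) :
    IsZero ((homologyFunctor B i).obj ((RG G).obj ((singleFunctor A a).obj M))) := by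
  obtain ⟨h1, h2⟩ := nonempty_homology_RG_single G M
  have h0 : IsZero ((homologyFunctor B (i - a)).obj ((RG G).obj ((singleFunctor A 0).obj M))) := by
    by_cases hp : i - a < 0
    · exact h2 _ hp
    · obtain ⟨e⟩ := h1 (i - a).toNat
      rw [show i - a = ((i - a).toNat : ℤ) by omega]
      exact (h _ (by omega)).of_iso e
  let i₁ : (singleFunctor A 0).obj M ≅ ((singleFunctor A a).obj M)⟦a⟧ :=
    (((singleFunctors A).shiftIso a 0 a (add_zero a)).app M).symm
  obtain ⟨e⟩ := nonempty_shift_RG G ((singleFunctor A a).obj M) a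
  exact h0.of_iso ((((homologyFunctor B 0).shiftIso a (i - a) i (by omega)).app
    ((RG G).obj ((singleFunctor A a).obj M))).symm ≪≫
    (homologyFunctor B (i - a)).mapIso (e.symm ≪≫ (RG G).mapIso i₁.symm))

end Groth.Agent.SiteCmpLib.Secs
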