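import Groth.Agent.SiteCmpLib.Secs.Cls
import Groth.Agent.H9Misc.TFactor

/-!
# Truncations and derived limits in categories with sections
-/

set_option autoImplicit false

universe w u

open CategoryTheory CategoryTheory.Limits Opposite Pretriangulated DerivedCategory

namespace Groth.Agent.SiteCmpLib.Secs

open Groth.Agent.DLim (exact₂_mk exact₃_shift rlim_eq_zero rlim_exists_lift rlim_comp_t
  limOne_of_eventually_surjective sections_separated IsCoveredBy isIso_of_bijective_on)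

section General

variable {A : Type (u + 1)} [Category.{u} A] [Abelian A] [HasDerivedCategory.{w} A]

local notation "tS" => (DerivedCategory.TStructure.t (C := A))
local notation "H" => DerivedCategory.homologyFunctor A

/-- The fibre of `τ_{≥ a} E ⟶ τ_{≥ a+1} E`. -/
lemma exists_truncFibre' (E : DerivedCategory (A)) (a b : ℤ) (hb : a + 1 = b) :
    ∃ (F : DerivedCategory (A)) (f : F ⟶ ((tS).truncGE a).obj E)
      (h : ((tS).truncGE b).obj E ⟶ F⟦(1 : ℤ)⟧),
      Triangle.mk f (((tS).natTransTruncGEOfLE a b (by omega)).app E) h ∈ distinguishedTriangles ∧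
      F.IsGE a ∧ F.IsLE a ∧ Nonempty ((homologyFunctor A a).obj F ≅ (homologyFunctor A a).obj E) := by
  let g := ((tS).natTransTruncGEOfLE a b (by omega)).app E
  obtain ⟨F, f, h, hT⟩ := distinguished_cocone_triangle₁ g
  have hX : (((tS).truncGE a).obj E).IsGE a := (tS).isGE_truncGE_obj ..
  have hX' : (((tS).truncGE b).obj E).IsGE b := (tS).isGE_truncGE_obj ..
  have hiso : ∀ i, b ≤ i → IsIso ((H i).map g) := fun i hi => by
    have e := congrArg (H i).map ((tS).π_natTransTruncGEOfLE_app a b (by omega) E)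
    rw [Functor.map_comp] at e
    have := H9Misc.isIso_map_truncGEπ a i (by omega) E
    have := H9Misc.isIso_map_truncGEπ b i hi E
    exact IsIso.of_isIso_fac_left e
  have hz : ∀ i, i < b → IsZero ((H i).obj (((tS).truncGE b).obj E)) := fun i hi =>
    isZero_of_isGE _ b i hi
  have hepi : ∀ i, a ≤ i → Epi ((H i).map g) := fun i hi => by
    by_cases h' : b ≤ i
    · have := hiso i h'; infer_instance
    · exact ⟨fun u v _ => (hz i (by omega)).eq_of_src u v⟩
  have hF : ∀ i, i ≠ a → IsZero ((H i).obj F) := fun i hi => by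
    have hm : Mono ((H i).map f) := by
      refine (HomologySequence.mono_homologyMap_mor₁_iff _ hT (i - 1) i).2 ?_
      by_cases h' : i - 1 < b
      · exact (hz (i - 1) h').eq_of_src _ _
      · have := hepi (i - 1) (by omega)
        exact (HomologySequence.epi_homologyMap_mor₂_iff _ hT (i - 1) i).1 this
    have hzero : (H i).map f = 0 := by
      by_cases h' : i < a
      · exact (isZero_of_isGE _ a i h').eq_of_tgt _ _
      · have := hiso i (by omega)
        refine (cancel_mono ((H i).map g)).1 ?_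
        rw [zero_comp, ← Functor.map_comp]
        exact (congrArg (H i).map (comp_distTriang_mor_zero₁₂ _ hT)).trans (Functor.map_zero _ _ _)
    exact @IsZero.of_mono_eq_zero _ _ _ _ _ _ hm hzero
  have hm : Mono ((H a).map f) :=
    (HomologySequence.mono_homologyMap_mor₁_iff _ hT (a - 1) a).2
      ((hz (a - 1) (by omega)).eq_of_src _ _)
  have he : Epi ((H a).map f) :=
    (HomologySequence.epi_homologyMap_mor₁_iff _ hT a).2 ((hz a (by omega)).eq_of_tgt _ _)
  have : IsIso ((H a).map f) := isIso_of_mono_of_epi _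
  have := H9Misc.isIso_map_truncGEπ a a le_rfl E
  exact ⟨F, f, h, hT, (isGE_iff _ _).2 fun i hi => hF i (by omega),
    (isLE_iff _ _).2 fun i hi => hF i (by omega),
    ⟨asIso ((H a).map f) ≪≫ (asIso ((H a).map (((tS).truncGEπ a).app E))).symm⟩⟩


variable (E : DerivedCategory A)

lemma toTruncTower_comp (n : ℕ) :
    CohCx.toTruncTower E (n + 1) ≫ CohCx.truncTowerMap E n = CohCx.toTruncTower E n :=
  (tS).π_natTransTruncGEOfLE_app _ _ (by omega) E

/-- The comparison of `E` with the derived limit of its truncations. -/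
lemma exists_trunc_comparison' [HasProduct (CohCx.truncTower E)] :
    ∃ (L : DerivedCategory (A)) (a : ∀ n, L ⟶ CohCx.truncTower E n)
      (e : E ⟶ L),
      CohCx.IsRlimVia (CohCx.truncTower E) (CohCx.truncTowerMap E) L a ∧
      (∀ n, e ≫ a n = CohCx.toTruncTower E n) ∧
      ((∀ m : ℤ, IsIso ((H m).map e)) →
        CohCx.IsRlimVia (CohCx.truncTower E) (CohCx.truncTowerMap E) E (CohCx.toTruncTower E)) := by
  let K := CohCx.truncTower E
  let t := CohCx.truncTowerMap E
  let d : ∏ᶜ K ⟶ ∏ᶜ K := Pi.lift fun n => Pi.π K n - Pi.π K (n + 1) ≫ t n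
  obtain ⟨L, p, δ, hT⟩ := distinguished_cocone_triangle₁ d
  let a : ∀ n, L ⟶ K n := fun n => p ≫ Pi.π K n
  have hp : Pi.lift a = p := Pi.hom_ext _ _ fun n => Pi.lift_π _ _
  obtain ⟨e, he⟩ : ∃ e : E ⟶ L, Pi.lift (CohCx.toTruncTower E) = e ≫ p :=
    Triangle.coyoneda_exact₂ _ hT (Pi.lift (CohCx.toTruncTower E)) (Pi.hom_ext _ _ fun n => by
      show (Pi.lift (CohCx.toTruncTower E) ≫ d) ≫ Pi.π K n = 0 ≫ Pi.π K n
      have := toTruncTower_comp E n
      simp only [d, Category.assoc, Pi.lift_π, Preadditive.comp_sub, zero_comp]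
      erw [Pi.lift_π, Pi.lift_π_assoc]
      rw [sub_eq_zero]
      exact this.symm)
  refine ⟨L, a, e, ⟨δ, by rw [hp]; exact hT⟩,
    fun n => by rw [← Category.assoc, ← he, Pi.lift_π], fun hiso => ?_⟩
  have : IsIso e := (DerivedCategory.isIso_iff _ e).2 hiso
  let eI : E ≅ L := asIso e
  refine ⟨δ ≫ eI.inv⟦(1 : ℤ)⟧', isomorphic_distinguished _ hT _
    (Triangle.isoMk _ _ eI (Iso.refl _) (Iso.refl _) ?_ ?_ ?_)⟩
  · exact (Category.comp_id _).trans he
  · exact (Category.comp_id _).trans (Category.id_comp _).symm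
  · refine (Category.assoc _ _ _).trans (Eq.trans ?_ (Category.id_comp δ).symm)
    refine (congrArg (δ ≫ ·) ?_).trans (Category.comp_id δ)
    exact (Functor.map_comp _ _ _).symm.trans
      ((congrArg _ eI.inv_hom_id).trans (CategoryTheory.Functor.map_id _ _))


end General

variable {C : Type u} [SmallCategory C] {J : GrothendieckTopology C}
  {A : Type (u + 1)} [Category.{u} A] [Abelian A] [HasDerivedCategory.{w} A] (S : Secs J A)

local notation "tS" => (DerivedCategory.TStructure.t (C := A))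
local notation "H" => DerivedCategory.homologyFunctor A

/-- `M` has no degree-`k` cohomology over `U`. -/
def Van (M : A) (k : ℕ) (U : C) : Prop :=
  ∀ φ : S.PD U ⟶ ((singleFunctor A 0).obj M)⟦(k : ℤ)⟧, φ = 0

/-- All cohomology objects of `E` have cohomological dimension `≤ d` at `U`. -/
def Good (E : DerivedCategory A) (d : ℕ) (U : C) : Prop :=
  ∀ (q : ℤ) (k : ℕ), d < k → S.Van ((H q).obj E) k U

lemma hom_eq_zero_of_heart (F : DerivedCategory A) (a : ℤ) [F.IsGE a] [F.IsLE a] (U : C) (k : ℕ)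
    (m : ℤ) (hm : a + k = m) {M : A} (e : (H a).obj F ≅ M) (h : S.Van M k U)
    (x : S.PD U ⟶ F⟦m⟧) : x = 0 := by
  obtain ⟨G, ⟨eF⟩⟩ := exists_iso_singleFunctor_obj_of_isGE_of_isLE F a
  let eG : M ≅ G :=
    e.symm ≪≫ (H a).mapIso eF ≪≫ (singleFunctorCompHomologyFunctorIso _ a).app G
  let i : ((singleFunctor A 0).obj M)⟦(k : ℤ)⟧ ≅ F⟦m⟧ :=
    (shiftFunctor _ (k : ℤ)).mapIso
      ((singleFunctor A 0).mapIso eG ≪≫
        (((singleFunctors A).shiftIso a 0 a (add_zero a)).app G).symm) ≪≫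
    ((shiftFunctorAdd' (DerivedCategory A) a (k : ℤ) m hm).app _).symm ≪≫
    (shiftFunctor _ m).mapIso eF.symm
  rw [← cancel_mono i.inv, zero_comp]
  exact h _

lemma step_injective (E : DerivedCategory A) (d : ℕ) (U : C) (hE : S.Good E d U) (a b m : ℤ)
    (hb : a + 1 = b) (hd : d < m - a) (x : S.PD U ⟶ (((tS).truncGE a).obj E)⟦m⟧)
    (hx : x ≫ (((tS).natTransTruncGEOfLE a b (by omega)).app E)⟦m⟧' = 0) : x = 0 := by
  obtain ⟨F, f, c, hT, _, _, ⟨e⟩⟩ := exists_truncFibre' E a b hb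
  obtain ⟨y, rfl⟩ := exact₂_mk hT m x hx
  rw [S.hom_eq_zero_of_heart F a U (m - a).toNat m (by omega) e (hE a _ (by omega)) y, zero_comp]

lemma step_surjective (E : DerivedCategory A) (d : ℕ) (U : C) (hE : S.Good E d U) (a b m : ℤ)
    (hb : a + 1 = b) (hd : d < m + 1 - a) (x : S.PD U ⟶ (((tS).truncGE b).obj E)⟦m⟧) :
    ∃ y : S.PD U ⟶ (((tS).truncGE a).obj E)⟦m⟧,
      y ≫ (((tS).natTransTruncGEOfLE a b (by omega)).app E)⟦m⟧' = x := by
  obtain ⟨F, f, c, hT, _, _, ⟨e⟩⟩ := exists_truncFibre' E a b hb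
  refine exact₃_shift _ hT m x ?_
  refine (cancel_mono ((shiftFunctorAdd' _ (1 : ℤ) m (m + 1) (by omega)).inv.app F)).1 ?_
  refine (S.hom_eq_zero_of_heart F a U (m + 1 - a).toNat (m + 1) (by omega) e (hE a _ (by omega))
    _).trans zero_comp.symm

lemma trans_injective (E : DerivedCategory A) (d : ℕ) (U : C) (hE : S.Good E d U) (m : ℤ) :
    ∀ (k : ℕ) (a b : ℤ) (h : a + k = b), d < m - b + 1 →
      ∀ x : S.PD U ⟶ (((tS).truncGE a).obj E)⟦m⟧,
        x ≫ (((tS).natTransTruncGEOfLE a b (by omega)).app E)⟦m⟧' = 0 → x = 0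
  | 0, a, b, h, _, x, hx => by
    obtain rfl : a = b := by omega
    rw [(tS).natTransTruncGEOfLE_refl_app] at hx
    rwa [CategoryTheory.Functor.map_id, Category.comp_id] at hx
  | k + 1, a, b, h, hd, x, hx => by
    refine S.step_injective E d U hE a (a + 1) m rfl (by omega) x ?_
    refine trans_injective E d U hE m k (a + 1) b (by omega) hd _ ?_
    rw [Category.assoc, ← Functor.map_comp, (tS).natTransTruncGEOfLE_trans_app, hx]

lemma tower_limOne (E : DerivedCategory A) (d : ℕ) (U : C) (hE : S.Good E d U) (m : ℤ)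
    (b : ∀ n, S.PD U ⟶ (CohCx.truncTower E n)⟦m⟧) :
    ∃ w : ∀ n, S.PD U ⟶ (CohCx.truncTower E n)⟦m⟧,
      ∀ n, w n - w (n + 1) ≫ (CohCx.truncTowerMap E n)⟦m⟧' = b n :=
  limOne_of_eventually_surjective (d + m.natAbs + 1)
    (fun n => S.PD U ⟶ (CohCx.truncTower E n)⟦m⟧)
    (fun n => Preadditive.rightComp _ ((CohCx.truncTowerMap E n)⟦m⟧'))
    (fun n hn x => S.step_surjective E d U hE _ _ m (by omega) (by omega) x) b

section Limit

variable {E L : DerivedCategory A} [HasProduct (CohCx.truncTower E)]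
  {a : ∀ n, L ⟶ CohCx.truncTower E n}

include S in
lemma proj_eq (hL : CohCx.IsRlimVia (CohCx.truncTower E) (CohCx.truncTowerMap E) L a) (n : ℕ) :
    ∀ k : ℕ, a (n + k) ≫ ((tS).natTransTruncGEOfLE (-((n + k : ℕ) : ℤ)) (-(n : ℤ)) (by omega)).app E =
      a n
  | 0 => by
    refine (congrArg (a n ≫ ·) ((tS).natTransTruncGEOfLE_refl_app _ E)).trans ?_
    exact Category.comp_id _
  | k + 1 => by
    refine Eq.trans ?_ (proj_eq hL n k)
    conv_rhs => rw [← rlim_comp_t hL (n + k), Category.assoc]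
    refine congrArg (a (n + k + 1) ≫ ·) ?_
    exact ((tS).natTransTruncGEOfLE_trans_app (-((n + k + 1 : ℕ) : ℤ)) (-((n + k : ℕ) : ℤ))
      (-(n : ℤ)) (by omega) (by omega) E).symm

/-- Classes of the derived limit are detected by a single truncation. -/
lemma eq_zero_of_proj (hL : CohCx.IsRlimVia (CohCx.truncTower E) (CohCx.truncTowerMap E) L a)
    (d : ℕ) (U : C) (hE : S.Good E d U) (m : ℤ) (N : ℕ) (hN : d + m.natAbs < N)
    (x : S.PD U ⟶ L⟦m⟧) (hx : x ≫ (a N)⟦m⟧' = 0) : x = 0 := by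
  refine rlim_eq_zero hL m (S.tower_limOne E d U hE (m - 1)) x fun n => ?_
  have hbig : x ≫ (a (N + n))⟦m⟧' = 0 := by
    refine S.trans_injective E d U hE m n (-((N + n : ℕ) : ℤ)) (-(N : ℤ)) (by omega) (by omega) _ ?_
    rw [Category.assoc, ← Functor.map_comp, S.proj_eq hL N n, hx]
  have hn : x ≫ (a (n + N))⟦m⟧' = 0 := by rw [Nat.add_comm]; exact hbig
  rw [← S.proj_eq hL n N, Functor.map_comp, ← Category.assoc, hn, zero_comp]

/-- Classes of a truncation lift to the derived limit. -/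
lemma exists_proj_eq (hL : CohCx.IsRlimVia (CohCx.truncTower E) (CohCx.truncTowerMap E) L a)
    (d : ℕ) (U : C) (hE : S.Good E d U) (m : ℤ) (N : ℕ) (hN : d + m.natAbs < N)
    (x : S.PD U ⟶ (CohCx.truncTower E N)⟦m⟧) : ∃ y : S.PD U ⟶ L⟦m⟧, y ≫ (a N)⟦m⟧' = x := by
  choose g hg using fun (n : ℕ) (z : S.PD U ⟶ (CohCx.truncTower E (N + n))⟦m⟧) =>
    S.step_surjective E d U hE (-((N + n + 1 : ℕ) : ℤ)) (-((N + n : ℕ) : ℤ)) m (by omega) (by omega) z
  let x' : ∀ n, S.PD U ⟶ (CohCx.truncTower E (N + n))⟦m⟧ := fun n => Nat.rec x (fun k z => g k z) n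
  let y : ∀ n : ℕ, S.PD U ⟶ (CohCx.truncTower E n)⟦m⟧ := fun n =>
    x' n ≫ (((tS).natTransTruncGEOfLE (-((N + n : ℕ) : ℤ)) (-(n : ℤ)) (by omega)).app E)⟦m⟧'
  obtain ⟨z, hz⟩ := rlim_exists_lift hL m y fun n => by
    show (x' (n + 1) ≫ _) ≫ _ = x' n ≫ _
    conv_rhs => rw [show x' n = x' (n + 1) ≫ _ from (hg n (x' n)).symm]
    simp only [Category.assoc, ← Functor.map_comp]
    refine congrArg (fun t => x' (n + 1) ≫ t⟦m⟧') ?_
    exact ((tS).natTransTruncGEOfLE_trans_app _ _ _ _ _ E).trans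
      ((tS).natTransTruncGEOfLE_trans_app _ _ _ _ _ E).symm
  refine ⟨z, (hz N).trans ?_⟩
  suffices key : ∀ n : ℕ,
      x' n ≫ (((tS).natTransTruncGEOfLE (-((N + n : ℕ) : ℤ)) (-(N : ℤ)) (by omega)).app E)⟦m⟧' = x from
    key N
  intro n
  induction n with
  | zero =>
    refine (congrArg (fun t => x' 0 ≫ t⟦m⟧') ((tS).natTransTruncGEOfLE_refl_app _ E)).trans ?_
    rw [CategoryTheory.Functor.map_id, Category.comp_id]
    rfl
  | succ n ih =>
    refine Eq.trans ?_ ih
    conv_rhs => rw [show x' n = x' (n + 1) ≫ _ from (hg n (x' n)).symm]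
    simp only [Category.assoc, ← Functor.map_comp]
    refine congrArg (fun t => x' (n + 1) ≫ t⟦m⟧') ?_
    exact ((tS).natTransTruncGEOfLE_trans_app _ _ _ (by omega) (by omega) E).symm

/-- Injectivity on sections of the cohomology. -/
lemma sections_injective (hL : CohCx.IsRlimVia (CohCx.truncTower E) (CohCx.truncTowerMap E) L a)
    (V : C) (d : ℕ) (m : ℤ) (N : ℕ) (hN : d + m.natAbs < N)
    (h : ∀ T ∈ J V, ∃ (ι : Type u) (Y : ι → C) (f : ∀ i, Y i ⟶ V), (∀ i, T.arrows (f i)) ∧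
      Sieve.ofArrows Y f ∈ J V ∧ ∀ i, S.Good E d (Y i))
    (s : (S.HDs L m).obj.obj (op V)) (hs : S.hmap (a N) m V s = 0) : s = 0 := by
  obtain ⟨R, hR, hlift⟩ := S.exists_cover_lift L m V s
  choose x hx using hlift
  have hloc : ∀ (W : C) (f : W ⟶ V) (hf : R f), ∃ R' ∈ J W, ∀ (Z : C) (g : Z ⟶ W), R' g →
      (singleFunctor A 0).map (S.P.map g) ≫ x W f hf ≫ (a N)⟦m⟧' = 0 := fun W f hf => by
    refine S.exists_cover_eq_zero _ m W _ ?_
    rw [S.cls_comp, hx]
    exact (ConcreteCategory.congr_hom ((S.Φ.map ((H m).map (a N))).hom.naturality f.op) s).trans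
      ((congrArg ((S.HDs (CohCx.truncTower E N) m).obj.map f.op).hom hs).trans (map_zero _))
  choose R' hR' hzero using hloc
  obtain ⟨ι, Y, f, hT, hcov, hgood⟩ := h (Sieve.bind R.arrows fun W g hg => R' W g hg)
    (J.bind_covering hR fun W g hg => hR' W g hg)
  refine sections_separated _ hcov s 0 ?_
  rintro Z k ⟨Z', b, c, ⟨i⟩, rfl⟩
  obtain ⟨W, g, q, hq, hg, e⟩ := hT i
  have hy : (singleFunctor A 0).map (S.P.map g) ≫ x W q hq = 0 :=
    S.eq_zero_of_proj hL d _ (hgood i) m N hN _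
      ((Category.assoc _ _ _).trans (hzero W q hq _ g hg))
  have hfi : ((S.HDs L m).obj.map (f i).op).hom s = 0 := by
    rw [← e, op_comp, Functor.map_comp]
    show ((S.HDs L m).obj.map g.op).hom (((S.HDs L m).obj.map q.op).hom s) = 0
    rw [← hx W q hq, ← S.cls_res, hy, map_zero]
  rw [op_comp, Functor.map_comp]
  show ((S.HDs L m).obj.map b.op).hom (((S.HDs L m).obj.map (f i).op).hom s) = _
  rw [hfi, map_zero, map_zero]

end Limit

/-- `E` is the derived limit of its truncations if its cohomology has locally bounded dimension. -/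
theorem isRlimVia_trunc (E : DerivedCategory A) [HasProduct (CohCx.truncTower E)] {B : Set C}
    (hB : IsCoveredBy J B)
    (h : ∀ V ∈ B, ∃ d : ℕ, ∀ T ∈ J V, ∃ (ι : Type u) (Y : ι → C) (f : ∀ i, Y i ⟶ V),
      (∀ i, T.arrows (f i)) ∧ Sieve.ofArrows Y f ∈ J V ∧ ∀ i, S.Good E d (Y i)) :
    CohCx.IsRlimVia (CohCx.truncTower E) (CohCx.truncTowerMap E) E (CohCx.toTruncTower E) := by
  obtain ⟨L, a, e, hL, hea, hfin⟩ := exists_trunc_comparison' E
  refine hfin fun m => ?_
  suffices IsIso (S.Φ.map ((H m).map e)) from isIso_of_reflects_iso ((H m).map e) S.Φ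
  refine isIso_of_bijective_on _ hB fun V hV => ?_
  obtain ⟨d, hd⟩ := h V hV
  let N : ℕ := d + m.natAbs + 1
  have := H9Misc.isIso_map_truncGEπ (-(N : ℤ)) m (by omega) E
  have hπ := DLim.sections_bijective_of_isIso (S.Φ.map ((H m).map (CohCx.toTruncTower E N))) V
  have hinj : ∀ s, S.hmap (a N) m V s = 0 → s = 0 :=
    S.sections_injective hL V d m N (by omega) hd
  have hcomp : ∀ x, S.hmap (CohCx.toTruncTower E N) m V x = S.hmap (a N) m V (S.hmap e m V x) :=
    fun x => by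
      rw [← hea N]
      simp only [hmap, Functor.map_comp]
      rfl
  refine ⟨fun x y hxy => hπ.1 ?_, fun y => ?_⟩
  · exact (hcomp x).trans ((congrArg _ hxy).trans (hcomp y).symm)
  · obtain ⟨x, hx⟩ := hπ.2 (S.hmap (a N) m V y)
    refine ⟨x, sub_eq_zero.1 (hinj _ ?_)⟩
    rw [map_sub, sub_eq_zero]
    exact (hcomp x).symm.trans hx

/-- At a good object hypercohomology is that of a truncation. -/
theorem proj_bijective (E : DerivedCategory A) [HasProduct (CohCx.truncTower E)]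
    (hL : CohCx.IsRlimVia (CohCx.truncTower E) (CohCx.truncTowerMap E) E (CohCx.toTruncTower E))
    (d : ℕ) (U : C) (hE : S.Good E d U) (m : ℤ) (N : ℕ) (hN : d + m.natAbs < N) :
    Function.Bijective (fun x : S.PD U ⟶ E⟦m⟧ => x ≫ (CohCx.toTruncTower E N)⟦m⟧') := by
  refine ⟨fun x y hxy => sub_eq_zero.1 (S.eq_zero_of_proj hL d U hE m N hN _ ?_), fun x =>
    S.exists_proj_eq hL d U hE m N hN x⟩
  rw [Preadditive.sub_comp, sub_eq_zero]
  exact hxy

end Groth.Agent.SiteCmpLib.Secs
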