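import Groth.Agent.SiteCmpLib.Secs.DerivedProps
import Groth.Agent.SiteCmpLib.Secs.Rlim

/-!
# Vanishing of higher derived functors and lifting of sections
-/

set_option autoImplicit false

universe w w' v' u'' u

open CategoryTheory CategoryTheory.Limits Opposite DerivedCategory Pretriangulated
open scoped ZeroObject

namespace Groth.Agent.SiteCmpLib.Secs

variable {C : Type u} [SmallCategory C] {J : GrothendieckTopology C}

/-- An object all whose sections vanish is zero. -/
lemma isZero_of_sections {A : Type u''} [Category.{v'} A] [Abelian A] (S : Secs J A) (X : A) (h : ∀ (U : C) (s : (S.Φ.obj X).obj.obj (op U)), s = 0) :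
    IsZero X := by
  rw [IsZero.iff_id_eq_zero]
  have := S.additive
  have h0 : IsZero (S.Φ.obj X) := by
    rw [IsZero.iff_id_eq_zero]
    refine Sheaf.hom_ext (NatTrans.ext (funext fun U => ?_))
    ext s
    exact h U.unop s
  have : IsIso (S.Φ.map (0 : X ⟶ X)) := h0.isIso h0 _
  have h1 : IsIso (0 : X ⟶ X) := isIso_of_reflects_iso _ S.Φ
  exact (isIsoZeroEquiv X X h1).1

variable
  {A : Type (u + 1)} [Category.{u} A] [Abelian A] [HasDerivedCategory.{w} A] (S : Secs J A)

/-- Sections lift along an epimorphism with acyclic kernel. -/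
lemma sec_surjective_of_van {T : ShortComplex A} (hT : T.ShortExact) (U : C)
    (hv : S.Van T.X₁ 1 U) :
    Function.Surjective ((S.Φ.map T.g).hom.app (op U)).hom := by
  intro s
  let x := (S.sec U T.X₃).symm s
  have hd : (singleFunctor A 0).map x ≫ hT.singleδ = 0 := hv _
  obtain ⟨y, hy⟩ := Triangle.coyoneda_exact₃ hT.singleTriangle hT.singleTriangle_distinguished _ hd
  obtain ⟨y', rfl⟩ := (singleFunctor A 0).map_surjective y
  refine ⟨S.sec U T.X₂ y', ?_⟩
  have h : y' ≫ T.g = x :=
    (singleFunctor A 0).map_injective (((singleFunctor A 0).map_comp _ _).trans hy.symm)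
  rw [← S.sec_comp, h, AddEquiv.apply_symm_apply]

variable [IsGrothendieckAbelian.{u} A] {B : Type u''} [Category.{v'} B] [Abelian B]
  [HasDerivedCategory.{w'} B] {D : Type u} [SmallCategory D] {K : GrothendieckTopology D}
  (G : A ⥤ B) [G.Additive]
  [(G.mapHomotopyCategory (ComplexShape.up ℤ) ⋙ Qh).HasRightDerivedFunctor
      (HomotopyCategory.quasiIso A (ComplexShape.up ℤ))]
  {S} {S' : Secs K B} (π : PushData S S' G)

include π in
/-- Higher derived functors vanish on locally acyclic objects. -/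
lemma isZero_rightDerived_of_van (M : A) (p : ℕ)
    (h : ∀ (V : D), ∀ T ∈ K V, ∃ (ι : Type u) (Yf : ι → D) (f : ∀ i, Yf i ⟶ V),
      (∀ i, T.arrows (f i)) ∧ Sieve.ofArrows Yf f ∈ K V ∧ ∀ i, S.Van M p (π.u (Yf i))) :
    IsZero ((G.rightDerived p).obj M) := by
  obtain ⟨h1, -⟩ := nonempty_homology_RG_single G M
  obtain ⟨e⟩ := h1 p
  refine IsZero.of_iso ?_ e.symm
  let g : (singleFunctor A 0).obj M ⟶ (singleFunctor A 0).obj (0 : A) := 0
  have hz : ∀ m : ℤ, IsZero (((singleFunctor A 0).obj (0 : A))⟦m⟧) := fun m =>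
    (shiftFunctor _ m).map_isZero ((singleFunctor A 0).map_isZero (isZero_zero A))
  have hRG : IsZero ((RG G).obj ((singleFunctor A 0).obj (0 : A))) := by
    obtain ⟨R', _, _, ⟨i⟩⟩ := exists_commShift_RG G
    exact (R'.map_isZero ((singleFunctor A 0).map_isZero (isZero_zero A))).of_iso (i.app _).symm
  refine S'.isZero_of_sections _ ?_
  intro V (s : (S'.HDs ((RG G).obj ((singleFunctor A 0).obj M)) (p : ℤ)).obj.obj (op V))
  refine derived_injective G π g (p : ℤ) V ?_ s ?_
  · intro T hT
    obtain ⟨ι, Yf, f, h1, h2, h3⟩ := h V T hT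
    refine ⟨ι, Yf, f, h1, h2, fun i => ⟨fun a b _ => (h3 i a).trans (h3 i b).symm,
      fun b => ⟨0, ?_⟩⟩⟩
    exact (hz p).eq_of_tgt _ _
  · have : IsZero (S'.Φ.obj ((homologyFunctor B (p : ℤ)).obj
        ((RG G).obj ((singleFunctor A 0).obj (0 : A))))) := by
      have := S'.additive
      exact S'.Φ.map_isZero ((homologyFunctor B _).map_isZero hRG)
    show ((S'.Φ.map _).hom.app (op V)).hom s = 0
    rw [this.eq_of_tgt (S'.Φ.map _) 0]
    rfl

end Groth.Agent.SiteCmpLib.Secs
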