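import Groth.Agent.SiteCmpLib.Secs.DerivedProps
import Groth.Agent.SiteCmpLib.CohIn
import Groth.Agent.TriCat.Resolve

/-!
# Amplitude and cohomology classes for the right derived functor
-/

set_option autoImplicit false

universe w w' v u' v' u''

open CategoryTheory CategoryTheory.Limits DerivedCategory Pretriangulated

namespace Groth.Agent.SiteCmpLib.Secs

variable {A : Type u'} [Category.{v} A] [Abelian A] [IsGrothendieckAbelian.{v} A]
  [HasDerivedCategory.{w} A] {B : Type u''} [Category.{v'} B] [Abelian B]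
  [HasDerivedCategory.{w'} B] (G : A ⥤ B) [G.Additive]
  [(G.mapHomotopyCategory (ComplexShape.up ℤ) ⋙ Qh).HasRightDerivedFunctor
      (HomotopyCategory.quasiIso A (ComplexShape.up ℤ))]

/-- `RG` preserves being bounded below. -/
theorem isGE_RG (Y : DerivedCategory A) (n : ℤ) [Y.IsGE n] : ((RG G).obj Y).IsGE n := by
  obtain ⟨L, _, ⟨e⟩⟩ := exists_iso_Q_obj_of_isGE Y n
  obtain ⟨I, α, hI, hIi, -, hq⟩ := TriCat.exists_quasiIso_resolution (fun X : A => Injective X)
    ⟨_, isZero_zero A, Injective.zero_injective⟩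
    (fun X => ⟨Injective.under X, Injective.ι X, inferInstance, inferInstance⟩) L n
  have : ∀ i, Injective (I.X i) := hIi
  have : I.IsKInjective := CochainComplex.isKInjective_of_injective I n
  have hα : IsIso (DerivedCategory.Q.map α) :=
    Localization.inverts DerivedCategory.Q (HomologicalComplex.quasiIso A (ComplexShape.up ℤ)) _ hq
  let F := G.mapHomotopyCategory (ComplexShape.up ℤ) ⋙ Qh
  have hu := isIso_unit_of_kInj F I
  let E : (RG G).obj Y ≅ Q.obj ((G.mapHomologicalComplex (ComplexShape.up ℤ)).obj I) :=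
    (RG G).mapIso (e ≪≫ asIso (DerivedCategory.Q.map α) ≪≫ (quotientCompQhIso A).symm.app I) ≪≫
      (@asIso _ _ _ _ _ hu).symm ≪≫
      (quotientCompQhIso B).app ((G.mapHomologicalComplex (ComplexShape.up ℤ)).obj I)
  refine (isGE_iff _ _).2 fun i hi => IsZero.of_iso ?_ ((homologyFunctor B i).mapIso E ≪≫
    (homologyFunctorFactors B i).app ((G.mapHomologicalComplex (ComplexShape.up ℤ)).obj I))
  exact ShortComplex.isZero_homology_of_isZero_X₂ _
    (G.map_isZero (I.isZero_of_isStrictlyGE n i hi))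

/-- `RG` maps `D⁺_P` to `D_Q` if all `R^pG` map `P` to `Q`. -/
theorem cohIn_RG (P : ObjectProperty A) [WSerre.IsWeakSerre P] (Q' : ObjectProperty B)
    [WSerre.IsWeakSerre Q'] (h : ∀ M, P M → ∀ p : ℕ, Q' ((G.rightDerived p).obj M))
    (X : DerivedCategory A) (a : ℤ) [X.IsGE a] (hX : WSerre.cohIn P X) :
    WSerre.cohIn Q' ((RG G).obj X) := by
  obtain ⟨R', _, _, ⟨e⟩⟩ := exists_commShift_RG G
  refine (WSerre.cohIn Q').prop_of_iso (e.app X) ?_
  refine cohIn_map_of_isGE P Q' (fun M hM => (WSerre.cohIn Q').prop_of_iso (e.app _).symm ?_)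
    (fun n Y hY => ?_) X a hX
  · intro i
    obtain ⟨h1, h2⟩ := nonempty_homology_RG_single G M
    by_cases hi : i < 0
    · exact prop_of_isZero Q' (h2 i hi)
    · obtain ⟨e1⟩ := h1 i.toNat
      rw [show i = (i.toNat : ℤ) by omega]
      exact Q'.prop_of_iso e1.symm (h M hM _)
  · have := isGE_RG G Y n
    exact TStructure.t.isGE_of_iso (e.app Y).symm n

end Groth.Agent.SiteCmpLib.Secs
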