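import Groth.Agent.SiteCmpLib.Secs.DerivedProps
import Groth.Agent.SiteCmpLib.Secs.Rlim
import Groth.Agent.SiteCmpLib.CohIn
import Groth.Agent.TriCat.DerivedProducts

/-!
# Right derived functors of bounded cohomological dimension commute with truncations
-/

set_option autoImplicit false

universe w w' v' u'' u

open CategoryTheory CategoryTheory.Limits Opposite DerivedCategory Pretriangulated

namespace Groth.Agent.SiteCmpLib.Secs

variable {A : Type (u + 1)} [Category.{u} A] [Abelian A] [IsGrothendieckAbelian.{u} A]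
  [HasDerivedCategory.{w} A] {B : Type u''} [Category.{v'} B] [Abelian B]
  [HasDerivedCategory.{w'} B] (G : A ⥤ B) [G.Additive]
  [(G.mapHomotopyCategory (ComplexShape.up ℤ) ⋙ Qh).HasRightDerivedFunctor
      (HomotopyCategory.quasiIso A (ComplexShape.up ℤ))]
  (P : ObjectProperty A) [P.IsClosedUnderIsomorphisms] (N : ℤ)

local notation "tS" => (DerivedCategory.TStructure.t (C := A))
local notation "H" => DerivedCategory.homologyFunctor A

variable (h : ∀ M, P M → ∀ p : ℕ, N < (p : ℤ) → IsZero ((G.rightDerived p).obj M))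

include h in
lemma isIso_homology_RG_step (X : DerivedCategory A) (hX : WSerre.cohIn P X) (a b i : ℤ)
    (hb : a + 1 = b) (hi : N + b ≤ i) :
    IsIso ((homologyFunctor B i).map
      ((RG G).map (((tS).natTransTruncGEOfLE a b (by omega)).app X))) := by
  obtain ⟨F, f, c, hT, _, _, ⟨e⟩⟩ := exists_truncFibre' X a b hb
  obtain ⟨δ, hδ⟩ := exists_distinguished_RG G _ hT
  obtain ⟨M, ⟨eF⟩⟩ := exists_iso_singleFunctor_obj_of_isGE_of_isLE F a
  have hM : P M := P.prop_of_iso (e.symm ≪≫ (H a).mapIso eF ≪≫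
    (singleFunctorCompHomologyFunctorIso _ a).app M) (hX a)
  have hz : ∀ k, N + a < k → IsZero ((homologyFunctor B k).obj ((RG G).obj F)) := fun k hk =>
    (isZero_homology_RG_single G M N (h M hM) a k hk).of_iso
      ((homologyFunctor B k).mapIso ((RG G).mapIso eF))
  have hm := (HomologySequence.mono_homologyMap_mor₂_iff _ hδ i).2 ((hz i (by omega)).eq_of_src _ _)
  have he := (HomologySequence.epi_homologyMap_mor₂_iff _ hδ i (i + 1) rfl).2
    ((hz (i + 1) (by omega)).eq_of_tgt _ _)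
  exact @isIso_of_mono_of_epi _ _ _ _ _ _ hm he

include h in
lemma isIso_homology_RG_trans (X : DerivedCategory A) (hX : WSerre.cohIn P X) (i : ℤ) :
    ∀ (k : ℕ) (a b : ℤ) (hab : a + k = b), N + b ≤ i → IsIso ((homologyFunctor B i).map
      ((RG G).map (((tS).natTransTruncGEOfLE a b (by omega)).app X)))
  | 0, a, b, hab, _ => by
    obtain rfl : a = b := by omega
    rw [(tS).natTransTruncGEOfLE_refl_app]
    infer_instance
  | k + 1, a, b, hab, hi => by
    rw [← (tS).natTransTruncGEOfLE_trans_app a (a + 1) b (by omega) (by omega) X, Functor.map_comp,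
      Functor.map_comp]
    have h1 := isIso_homology_RG_step G P N h X hX a (a + 1) i rfl (by omega)
    have h2 := isIso_homology_RG_trans X hX i k (a + 1) b (by omega) hi
    exact IsIso.comp_isIso' h1 h2

variable {C D : Type u} [SmallCategory C] [SmallCategory D]
  {J : GrothendieckTopology C} {K : GrothendieckTopology D}
  {S : Secs J A} {S' : Secs K B} {G} (π : PushData S S' G) {P N}

lemma hasProduct_truncTower (X : DerivedCategory A) : HasProduct (CohCx.truncTower X) := by
  have : HasLimitsOfShape (Discrete ℕ) (DerivedCategory A) :=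
    TriCat.hasProductsOfShape_derivedCategory fun M => by
      obtain ⟨I, f, hI, hf, -, -⟩ := TriCat.exists_kInjective_resolution' M
      exact ⟨I, f, hI, hf⟩
  exact inferInstanceAs (HasLimit _)

include h in
/-- Sections detect the truncations for bounded cohomological dimension. -/
theorem isIso_homology_RG_truncGE (X : DerivedCategory A) (hX : WSerre.cohIn P X)
    {Bs : Set C} (hB : DLim.IsCoveredBy J Bs)
    (hA : ∀ V ∈ Bs, ∃ d : ℕ, ∀ T ∈ J V, ∃ (ι : Type u) (Y : ι → C) (f : ∀ i, Y i ⟶ V),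
      (∀ i, T.arrows (f i)) ∧ Sieve.ofArrows Y f ∈ J V ∧ ∀ i, S.Good X d (Y i))
    {Bs' : Set D} (hB' : DLim.IsCoveredBy K Bs')
    (hA' : ∀ V ∈ Bs', ∃ d : ℕ, ∀ T ∈ K V, ∃ (ι : Type u) (Y : ι → D) (f : ∀ i, Y i ⟶ V),
      (∀ i, T.arrows (f i)) ∧ Sieve.ofArrows Y f ∈ K V ∧ ∀ i, S.Good X d (π.u (Y i)))
    (n : ℕ) (j : ℤ) (hj : N - (n : ℤ) ≤ j) :
    IsIso ((homologyFunctor B j).map ((RG G).map (((tS).truncGEπ (-(n : ℤ))).app X))) := by
  have := hasProduct_truncTower X
  have hL := S.isRlimVia_trunc X hB hA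
  let ψ := (homologyFunctor B j).map ((RG G).map (CohCx.toTruncTower X n))
  suffices hψ : IsIso (S'.Φ.map ψ) from
    (isIso_of_reflects_iso ψ S'.Φ : IsIso ψ)
  have hbij : ∀ V ∈ Bs', ∃ m : ℕ, n ≤ m ∧ BijOn π (CohCx.toTruncTower X m) j V := fun V hV => by
    obtain ⟨d, hd⟩ := hA' V hV
    refine ⟨n + (d + j.natAbs + 1), Nat.le_add_right _ _, fun T hT => ?_⟩
    obtain ⟨ι, Y, f, h1, h2, h3⟩ := hd T hT
    exact ⟨ι, Y, f, h1, h2, fun i => S.proj_bijective X hL d _ (h3 i) j _ (by omega)⟩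
  have hfac : ∀ (m : ℕ) (hm : n ≤ m),
      ψ = (homologyFunctor B j).map ((RG G).map (CohCx.toTruncTower X m)) ≫
        (homologyFunctor B j).map ((RG G).map
          (((tS).natTransTruncGEOfLE (-(m : ℤ)) (-(n : ℤ)) (by omega)).app X)) := fun m hm => by
    rw [← Functor.map_comp, ← Functor.map_comp, (tS).π_natTransTruncGEOfLE_app]
  have hiso : ∀ (m : ℕ) (hm : n ≤ m), IsIso ((homologyFunctor B j).map ((RG G).map
      (((tS).natTransTruncGEOfLE (-(m : ℤ)) (-(n : ℤ)) (by omega)).app X))) := fun m hm =>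
    isIso_homology_RG_trans G P N h X hX j (m - n) (-(m : ℤ)) (-(n : ℤ)) (by omega) (by omega)
  have hinj : ∀ V ∈ Bs', ∀ s, ((S'.Φ.map ψ).hom.app (op V)).hom s = 0 → s = 0 := fun V hV s hs => by
    obtain ⟨m, hm, hb⟩ := hbij V hV
    refine derived_injective G π (CohCx.toTruncTower X m) j V hb s ?_
    have := hiso m hm
    refine (DLim.sections_bijective_of_isIso (S'.Φ.map ((homologyFunctor B j).map ((RG G).map
      (((tS).natTransTruncGEOfLE (-(m : ℤ)) (-(n : ℤ)) (by omega)).app X)))) V).1 ?_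
    rw [hfac m hm, Functor.map_comp] at hs
    exact hs.trans (map_zero _).symm
  refine (Sheaf.isLocallyBijective_iff_isIso (S'.Φ.map ψ)).1 ⟨⟨fun {U} x y hxy => ?_⟩, ⟨fun {U} s => ?_⟩⟩
  · obtain ⟨ι, Yf, f, hf, hY⟩ := hB' U.unop
    refine K.superset_covering ?_ hf
    rintro Z k ⟨Z', a, b, ⟨i⟩, rfl⟩
    refine Sieve.downward_closed _ ?_ a
    refine sub_eq_zero.1 (hinj _ (hY i) _ ?_)
    rw [map_sub, sub_eq_zero]
    exact (ConcreteCategory.congr_hom ((S'.Φ.map ψ).hom.naturality (f i).op) x).trans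
      ((congrArg _ hxy).trans
        (ConcreteCategory.congr_hom ((S'.Φ.map ψ).hom.naturality (f i).op) y).symm)
  · obtain ⟨ι, Yf, f, hf, hY⟩ := hB' U
    refine K.transitive hf _ ?_
    rintro Z k ⟨Z', a, b, ⟨i⟩, rfl⟩
    rw [Sieve.pullback_comp]
    refine K.pullback_stable a ?_
    obtain ⟨m, hm, hb⟩ := hbij _ (hY i)
    have := hiso m hm
    obtain ⟨t, ht⟩ := (DLim.sections_bijective_of_isIso (S'.Φ.map ((homologyFunctor B j).map
      ((RG G).map (((tS).natTransTruncGEOfLE (-(m : ℤ)) (-(n : ℤ)) (by omega)).app X)))) (Yf i)).2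
        (((S'.Φ.obj _).obj.map (f i).op).hom s)
    refine K.superset_covering (fun W l hl => ?_)
      (derived_locallySurjective G π (CohCx.toTruncTower X m) j (Yf i) hb t)
    obtain ⟨r, hr⟩ := hl
    refine ⟨r, ?_⟩
    show ((S'.Φ.map ψ).hom.app (op W)).hom r = ((S'.Φ.obj _).obj.map (l ≫ f i).op).hom s
    rw [op_comp, Functor.map_comp, hfac m hm, Functor.map_comp]
    show ((S'.Φ.map _).hom.app (op W)).hom (((S'.Φ.map _).hom.app (op W)).hom r) =
      ((S'.Φ.obj _).obj.map l.op).hom (((S'.Φ.obj _).obj.map (f i).op).hom s)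
    rw [hr, ← ht]
    exact ConcreteCategory.congr_hom ((S'.Φ.map ((homologyFunctor B j).map ((RG G).map
      (((tS).natTransTruncGEOfLE (-(m : ℤ)) (-(n : ℤ)) (by omega)).app X)))).hom.naturality l.op) t

end Groth.Agent.SiteCmpLib.Secs
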