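import Groth.Agent.SiteCmpLib.Secs.Rlim
import Groth.Agent.SiteBase.ExtMod
import Groth.Agent.SiteBase.HKRep
import Mathlib.Algebra.Homology.DerivedCategory.Ext.EnoughInjectives
import Groth.Prelude.Def_ModSite

/-!
# Sheaves of modules have sections
-/

set_option autoImplicit false

universe w u

open CategoryTheory CategoryTheory.Limits Opposite DerivedCategory

namespace Groth.Agent.SiteCmpLib.Secs

open Groth.Agent.SiteBase

variable {C : Type u} [SmallCategory C] {J : GrothendieckTopology C} (R : Sheaf J RingCat.{u})

/-- The free module on a representable. -/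
noncomputable abbrev freeP : C ⥤ SheafOfModules.{u} R :=
  yoneda ⋙ PresheafOfModules.free R.obj ⋙ PresheafOfModules.sheafification (𝟙 R.obj)

/-- Morphisms from the free module on `U` are sections over `U`. -/
noncomputable def modSec (U : C) (F : SheafOfModules.{u} R) :
    ((freeP R).obj U ⟶ F) ≃ ((SheafOfModules.toSheaf R).obj F).obj.obj (op U) :=
  ((freeModAdj R).homEquiv (yoneda.obj U) F).trans yonedaEquiv

lemma modSec_comp (U : C) {F G : SheafOfModules.{u} R} (φ : (freeP R).obj U ⟶ F) (g : F ⟶ G) :
    modSec R U G (φ ≫ g) =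
      (((SheafOfModules.toSheaf R).map g).hom.app (op U)).hom (modSec R U F φ) := by
  refine (congrArg yonedaEquiv ((freeModAdj R).homEquiv_naturality_right φ g)).trans ?_
  exact yonedaEquiv_comp _ _

lemma modSec_map {U V : C} (f : V ⟶ U) {F : SheafOfModules.{u} R} (φ : (freeP R).obj U ⟶ F) :
    modSec R V F ((freeP R).map f ≫ φ) =
      (((SheafOfModules.toSheaf R).obj F).obj.map f.op).hom (modSec R U F φ) := by
  refine (congrArg yonedaEquiv ((freeModAdj R).homEquiv_naturality_left (yoneda.map f) φ)).trans ?_
  exact (yonedaEquiv_naturality _ f).symm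

lemma modSec_add (U : C) (F : SheafOfModules.{u} R) (φ ψ : (freeP R).obj U ⟶ F) :
    modSec R U F (φ + ψ) = modSec R U F φ + modSec R U F ψ := by
  have key : ∀ χ : (freeP R).obj U ⟶ F, modSec R U F χ =
      (((SheafOfModules.toSheaf R).map χ).hom.app (op U)).hom (modSec R U _ (𝟙 _)) := fun χ =>
    (congrArg (modSec R U F) (Category.id_comp χ).symm).trans (modSec_comp R U (𝟙 _) χ)
  rw [key, key φ, key ψ, Functor.map_add]
  rfl

lemma toSheaf_reflectsIso : (SheafOfModules.toSheaf.{u} R).ReflectsIsomorphisms where
  reflects {F G} g _ := by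
    haveI : Mono g := (SheafOfModules.toSheaf R).mono_of_mono_map (inferInstanceAs (Mono ((SheafOfModules.toSheaf R).map g)))
    haveI : Epi g := (SheafOfModules.toSheaf R).epi_of_epi_map (inferInstanceAs (Epi ((SheafOfModules.toSheaf R).map g)))
    exact isIso_of_mono_of_epi g

/-- The sections structure on sheaves of modules. -/
noncomputable def modSecs : Secs J (SheafOfModules.{u} R) where
  Φ := SheafOfModules.toSheaf R
  additive := inferInstance
  preservesFiniteLimits := inferInstance
  preservesFiniteColimits := inferInstance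
  reflectsIso := toSheaf_reflectsIso R
  P := freeP R
  sec U F := { modSec R U F with map_add' := modSec_add R U F }
  sec_comp := modSec_comp R
  sec_map := modSec_map R

variable [HasDerivedCategory.{w} (SheafOfModules.{u} R)]

lemma van_of_HU (F : SheafOfModules.{u} R) (k : ℕ) (U : C)
    (h : Subsingleton (CohSite.HU ((SheafOfModules.toSheaf R).obj F) k U)) :
    (modSecs R).Van F k U := by
  have : HasExt.{u} (SheafOfModules.{u} R) := hasExt_of_enoughInjectives _
  obtain ⟨e⟩ := nonempty_ext_addEquiv (SheafOfModules.toSheaf R) ((freeP R).obj U)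
    (CohCx.freeSheaf J U) (fun _ hE => hE.map_of_exact (SheafOfModules.toSheaf R))
    (fun I hI q => subsingleton_HU_of_totallyAcyclic
      (@isTotallyAcyclic_toSheaf_injective _ _ _ R I hI) U q)
    (fun X => ((modSecs R).sec U X).trans (secEquiv J U _).symm)
    (fun X Y φ g => by
      refine (congrArg (secEquiv J U _).symm (modSec_comp R U φ g)).trans ?_
      exact (secEquiv_symm_comp U _ _).symm) k F
  intro φ
  haveI : Subsingleton (Abelian.Ext ((freeP R).obj U) F k) := e.toEquiv.subsingleton_congr.2 h
  haveI : Subsingleton ((modSecs R).PD U ⟶ ((singleFunctor _ 0).obj F)⟦(k : ℤ)⟧) :=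
    (Abelian.Ext.homEquiv (X := (freeP R).obj U) (Y := F) (n := k)).symm.subsingleton
  exact Subsingleton.elim _ _

end Groth.Agent.SiteCmpLib.Secs
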