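import Groth.Agent.SiteCmpLib.Secs.Bounded
import Groth.Agent.SiteCmpLib.Secs.Mod
import Groth.Prelude.Def_SiteCmp

/-!
# Truncations and direct images on ringed sites
-/

set_option autoImplicit false

universe u

open CategoryTheory CategoryTheory.Limits Opposite DerivedCategory

attribute [local instance] HasDerivedCategory.standard

namespace Groth.Agent.SiteCmpLib.Secs

variable {C D : Type u} [SmallCategory C] [SmallCategory D]
  {J : GrothendieckTopology C} {K : GrothendieckTopology D}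
  {O_C : Sheaf J CommRingCat.{u}} {O_D : Sheaf K CommRingCat.{u}}

/-- Sections of sheaves of modules on a ringed site. -/
noncomputable abbrev siteSecs (O : Sheaf J CommRingCat.{u}) : Secs J (ModSite.Mod O) :=
  modSecs (ModSite.ringSh O)

variable (f : ModSite.RMor O_C O_D)

/-- The direct image is computed on sections by the functor of the morphism. -/
noncomputable def pushData : PushData (siteSecs O_C) (siteSecs O_D) f.push where
  u := f.fn.obj
  τ V M := ((siteSecs O_D).sec V (f.push.obj M)).trans ((siteSecs O_C).sec (f.fn.obj V) M).symm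
  τ_comp V {M N} a g := by
    refine ((siteSecs O_C).sec (f.fn.obj V) N).injective ?_
    refine (AddEquiv.apply_symm_apply _ _).trans (Eq.trans ?_ ((siteSecs O_C).sec_comp _ _ g).symm)
    refine ((siteSecs O_D).sec_comp V a (f.push.map g)).trans ?_
    exact congrArg (((SheafOfModules.toSheaf (ModSite.ringSh O_C)).map g).hom.app
      (op (f.fn.obj V))).hom (AddEquiv.apply_symm_apply _ _).symm

lemma good_of_HU {O : Sheaf J CommRingCat.{u}} {A : ObjectProperty (ModSite.Mod O)}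
    {X : DerivedCategory (ModSite.Mod O)} (hX : WSerre.cohIn A X) {d : ℕ} {U : C}
    (h : ∀ F : ModSite.Mod O, A F → ∀ k : ℕ, d < k → Subsingleton (ModSite.HU O F k U)) :
    (siteSecs O).Good X d U :=
  fun q k hk => van_of_HU (ModSite.ringSh O) _ k U (h _ (hX q) k hk)

lemma exists_good {O : Sheaf J CommRingCat.{u}} {A : ObjectProperty (ModSite.Mod O)}
    {X : DerivedCategory (ModSite.Mod O)} (hX : WSerre.cohIn A X) {B : Set C}
    (hA : ∀ V ∈ B, ∃ d : ℕ, ∀ T ∈ J V, ∃ (ι : Type u) (Y : ι → C) (g : ∀ i, Y i ⟶ V),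
      (∀ i, T.arrows (g i)) ∧ Sieve.ofArrows Y g ∈ J V ∧
      ∀ (i : ι) (F : ModSite.Mod O), A F → ∀ k : ℕ, d < k → Subsingleton (ModSite.HU O F k (Y i))) :
    ∀ V ∈ B, ∃ d : ℕ, ∀ T ∈ J V, ∃ (ι : Type u) (Y : ι → C) (g : ∀ i, Y i ⟶ V),
      (∀ i, T.arrows (g i)) ∧ Sieve.ofArrows Y g ∈ J V ∧ ∀ i, (siteSecs O).Good X d (Y i) := by
  intro V hV
  obtain ⟨d, hd⟩ := hA V hV
  refine ⟨d, fun T hT => ?_⟩
  obtain ⟨ι, Y, g, h1, h2, h3⟩ := hd T hT
  exact ⟨ι, Y, g, h1, h2, fun i => good_of_HU hX (h3 i)⟩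

theorem isIso_homology_rpushD_truncGE [HasInjectiveResolutions (ModSite.Mod O_C)] [SiteCmp.HasRpushD f]
    (A : ObjectProperty (ModSite.Mod O_C)) [WSerre.IsWeakSerre A] (B : Set C) (B' : Set D)
    (hB : DLim.IsCoveredBy J B)
    (hA : ∀ V ∈ B, ∃ d : ℕ, ∀ T ∈ J V, ∃ (ι : Type u) (Y : ι → C) (g : ∀ i, Y i ⟶ V),
      (∀ i, T.arrows (g i)) ∧ Sieve.ofArrows Y g ∈ J V ∧
      ∀ (i : ι) (F : ModSite.Mod O_C), A F → ∀ k : ℕ, d < k → Subsingleton (ModSite.HU O_C F k (Y i)))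
    (hB' : DLim.IsCoveredBy K B')
    (hA' : ∀ V ∈ B', ∃ d : ℕ, ∀ T ∈ K V, ∃ (ι : Type u) (Y : ι → D) (g : ∀ i, Y i ⟶ V),
      (∀ i, T.arrows (g i)) ∧ Sieve.ofArrows Y g ∈ K V ∧
      ∀ (i : ι) (F : ModSite.Mod O_C), A F → ∀ k : ℕ, d < k →
        Subsingleton (ModSite.HU O_C F k (f.fn.obj (Y i))))
    (N : ℤ) (h3 : ∀ F : ModSite.Mod O_C, A F → ∀ p : ℕ, N < (p : ℤ) → IsZero ((f.Rpush p).obj F))
    (X : DerivedCategory (ModSite.Mod O_C)) (hX : WSerre.cohIn A X) (n : ℕ) (j : ℤ)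
    (hj : N - (n : ℤ) ≤ j) :
    IsIso ((homologyFunctor (ModSite.Mod O_D) j).map ((SiteCmp.RpushD f).map
      ((TStructure.t.truncGEπ (-(n : ℤ))).app X))) := by
  refine isIso_homology_RG_truncGE h3 (pushData f) X hX hB (exists_good hX hA) hB'
    (fun V hV => ?_) n j hj
  obtain ⟨d, hd⟩ := hA' V hV
  refine ⟨d, fun T hT => ?_⟩
  obtain ⟨ι, Y, g, h1, h2, h3'⟩ := hd T hT
  exact ⟨ι, Y, g, h1, h2, fun i => good_of_HU hX (h3' i)⟩

end Groth.Agent.SiteCmpLib.Secs
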