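import Groth.Agent.SiteCmpLib.Secs.Rlim
import Groth.Agent.SiteCmpLib.CohIn
import Mathlib.CategoryTheory.Functor.OfSequence

/-!
# Derived limits of eventually stationary towers
-/

set_option autoImplicit false

universe w u

open CategoryTheory CategoryTheory.Limits Opposite Pretriangulated DerivedCategory

namespace Groth.Agent.SiteCmpLib.Secs

open Groth.Agent.DLim (exact₂_mk exact₃_shift rlim_eq_zero rlim_exists_lift rlim_comp_t
  limOne_of_eventually_surjective sections_separated IsCoveredBy)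

variable {C : Type u} [SmallCategory C] {J : GrothendieckTopology C}
  {A : Type (u + 1)} [Category.{u} A] [Abelian A] [HasDerivedCategory.{w} A] (S : Secs J A)

local notation "tS" => (DerivedCategory.TStructure.t (C := A))
local notation "H" => DerivedCategory.homologyFunctor A

/-- A bounded object with good cohomology has no classes in high degree. -/
lemma hom_eq_zero_of_bounded (E : DerivedCategory A) (d : ℕ) (U : C) (hE : S.Good E d U)
    (a b m : ℤ) [E.IsGE a] [E.IsLE b] (hd : d < m - b) (x : S.PD U ⟶ E⟦m⟧) : x = 0 := by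
  have hp : IsIso (((tS).truncGEπ (min a (b + 1))).app E) := by
    rw [← (tS).isGE_iff_isIso_truncGEπ_app]
    exact (tS).isGE_of_ge E (min a (b + 1)) a (min_le_left _ _)
  have hz : IsZero (((tS).truncGE (b + 1)).obj E) :=
    (tS).isZero_truncGE_obj_of_isLE b (b + 1) rfl E
  refine (cancel_mono ((((tS).truncGEπ (min a (b + 1))).app E)⟦m⟧')).1 ?_
  refine Eq.trans ?_ zero_comp.symm
  refine S.trans_injective E d U hE m (b + 1 - min a (b + 1)).toNat (min a (b + 1)) (b + 1)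
    (by omega) (by omega) _ ?_
  exact ((shiftFunctor _ m).map_isZero hz).eq_of_tgt _ _

section Tower

variable {K : ℕ → DerivedCategory A} {t : ∀ n, K (n + 1) ⟶ K n}

/-- The transition maps of a tower. -/
noncomputable abbrev trLE (t : ∀ n, K (n + 1) ⟶ K n) {i l : ℕ} (h : i ≤ l) : K l ⟶ K i :=
  (Functor.ofOpSequence t).map (homOfLE h).op

lemma trLE_self (i : ℕ) : trLE t (le_refl i) = 𝟙 (K i) := by
  exact (Functor.ofOpSequence t).map_id (op i)

lemma trLE_comp {i k l : ℕ} (h : i ≤ k) (h' : k ≤ l) :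
    trLE t h' ≫ trLE t h = trLE t (h.trans h') := by
  exact ((Functor.ofOpSequence t).map_comp _ _).symm

lemma trLE_succ (n : ℕ) : trLE t (Nat.le_add_right n 1) = t n :=
  Functor.ofOpSequence_map_homOfLE_succ t n

variable [HasProduct K] {L : DerivedCategory A} {a : ∀ n, L ⟶ K n}

lemma comp_trLE (hL : CohCx.IsRlimVia K t L a) (i : ℕ) :
    ∀ (l : ℕ) (h : i ≤ l), a l ≫ trLE t h = a i :=
  Nat.le_induction (by rw [trLE_self, Category.comp_id]) fun l h ih => by
    rw [← trLE_comp h (Nat.le_add_right l 1), trLE_succ, ← Category.assoc, rlim_comp_t hL, ih]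

variable (P : ObjectProperty A) (N : ℤ)

/-- The successive fibres have cohomology in `P` and are concentrated in low degrees. -/
def GoodTower (t : ∀ n, K (n + 1) ⟶ K n) : Prop :=
  ∀ n : ℕ, ∃ (F : DerivedCategory A) (f : F ⟶ K (n + 1)) (c : K n ⟶ F⟦(1 : ℤ)⟧),
    Triangle.mk f (t n) c ∈ distinguishedTriangles ∧ WSerre.cohIn P F ∧
      (∃ b : ℤ, F.IsGE b) ∧ F.IsLE (N - n - 1)

variable {P N} (ht : GoodTower P N t)

include ht in
omit [HasProduct K] in
lemma isIso_trLE (i : ℕ) (j : ℤ) (hj : N - (i : ℤ) ≤ j) :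
    ∀ (l : ℕ) (h : i ≤ l), IsIso ((H j).map (trLE t h)) :=
  Nat.le_induction (by rw [trLE_self]; infer_instance) fun l h ih => by
    rw [← trLE_comp h (Nat.le_add_right l 1), trLE_succ, Functor.map_comp]
    obtain ⟨F, f, c, hT, -, -, hle⟩ := ht l
    have hz : ∀ k, N - l - 1 < k → IsZero ((H k).obj F) := fun k hk => isZero_of_isLE F _ k hk
    have hm := (HomologySequence.mono_homologyMap_mor₂_iff _ hT j).2 ((hz j (by omega)).eq_of_src _ _)
    have he := (HomologySequence.epi_homologyMap_mor₂_iff _ hT j (j + 1) rfl).2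
      ((hz (j + 1) (by omega)).eq_of_tgt _ _)
    exact IsIso.comp_isIso' (@isIso_of_mono_of_epi _ _ _ _ _ _ hm he) ih

variable (U : C) (d : ℕ) (hU : ∀ M, P M → ∀ k : ℕ, d < k → S.Van M k U)

include ht hU in
omit [HasProduct K] in
lemma tower_step_injective (n : ℕ) (m : ℤ) (hd : d < m - N + n + 1)
    (x : S.PD U ⟶ (K (n + 1))⟦m⟧) (hx : x ≫ (t n)⟦m⟧' = 0) : x = 0 := by
  obtain ⟨F, f, c, hT, hP, ⟨b, hb⟩, hle⟩ := ht n
  obtain ⟨y, rfl⟩ := exact₂_mk hT m x hx
  rw [S.hom_eq_zero_of_bounded F d U (fun q k hk => hU _ (hP q) k hk) b (N - n - 1) m (by omega) y,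
    zero_comp]

include ht hU in
omit [HasProduct K] in
lemma tower_step_surjective (n : ℕ) (m : ℤ) (hd : d < m - N + n + 2)
    (x : S.PD U ⟶ (K n)⟦m⟧) : ∃ y : S.PD U ⟶ (K (n + 1))⟦m⟧, y ≫ (t n)⟦m⟧' = x := by
  obtain ⟨F, f, c, hT, hP, ⟨b, hb⟩, hle⟩ := ht n
  refine exact₃_shift _ hT m x ?_
  refine (cancel_mono ((shiftFunctorAdd' _ (1 : ℤ) m (m + 1) (by omega)).inv.app F)).1 ?_
  refine (S.hom_eq_zero_of_bounded F d U (fun q k hk => hU _ (hP q) k hk) b (N - n - 1) (m + 1)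
    (by omega) _).trans zero_comp.symm

include ht hU in
lemma tower_eq_zero_of_proj (hL : CohCx.IsRlimVia K t L a) (m : ℤ) (M : ℕ)
    (hM : d < m - N + M + 1) (x : S.PD U ⟶ L⟦m⟧) (hx : x ≫ (a M)⟦m⟧' = 0) : x = 0 := by
  refine rlim_eq_zero hL m (fun b => limOne_of_eventually_surjective M
    (fun n => S.PD U ⟶ (K n)⟦m - 1⟧) (fun n => Preadditive.rightComp _ ((t n)⟦m - 1⟧'))
    (fun n hn z => S.tower_step_surjective ht U d hU n (m - 1) (by omega) z) b) x fun n => ?_
  have hbig : ∀ l (h : M ≤ l), x ≫ (a l)⟦m⟧' = 0 :=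
    Nat.le_induction hx fun l h ih => S.tower_step_injective ht U d hU l m (by omega) _ (by
      rw [Category.assoc, ← Functor.map_comp, rlim_comp_t hL, ih])
  rw [← comp_trLE hL n (n + M) (Nat.le_add_right n M), Functor.map_comp, ← Category.assoc,
    hbig _ (Nat.le_add_left M n), zero_comp]

include ht hU in
lemma tower_exists_proj_eq (hL : CohCx.IsRlimVia K t L a) (m : ℤ) (M : ℕ)
    (hM : d < m - N + M + 2) (x : S.PD U ⟶ (K M)⟦m⟧) :
    ∃ y : S.PD U ⟶ L⟦m⟧, y ≫ (a M)⟦m⟧' = x := by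
  choose g hg using fun (n : ℕ) (z : S.PD U ⟶ (K (M + n))⟦m⟧) =>
    S.tower_step_surjective ht U d hU (M + n) m (by omega) z
  let x' : ∀ n, S.PD U ⟶ (K (M + n))⟦m⟧ := fun n => Nat.rec x (fun k z => g k z) n
  let y : ∀ n : ℕ, S.PD U ⟶ (K n)⟦m⟧ := fun n => x' n ≫ (trLE t (Nat.le_add_left n M))⟦m⟧'
  have hx' : ∀ n, x' (n + 1) ≫ (trLE t (Nat.le_add_right (M + n) 1))⟦m⟧' = x' n := fun n => by
    rw [trLE_succ]; exact hg n (x' n)
  obtain ⟨z, hz⟩ := rlim_exists_lift hL m y fun n => by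
    show (x' (n + 1) ≫ _) ≫ _ = x' n ≫ _
    rw [← hx' n, Category.assoc, Category.assoc, ← Functor.map_comp, ← Functor.map_comp,
      ← trLE_succ (t := t) n, trLE_comp, trLE_comp]
  refine ⟨z, (hz M).trans ?_⟩
  suffices key : ∀ n : ℕ, x' n ≫ (trLE t (Nat.le_add_right M n))⟦m⟧' = x from key M
  intro n
  induction n with
  | zero =>
    show x ≫ (trLE t (le_refl M))⟦m⟧' = x
    rw [trLE_self, CategoryTheory.Functor.map_id, Category.comp_id]
  | succ n ih =>
    conv_rhs => rw [← ih, ← hx' n]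
    rw [Category.assoc, ← Functor.map_comp, trLE_comp]

include ht in
/-- The derived limit of a good tower agrees with its members in a range. -/
theorem isIso_homology_rlim (hL : CohCx.IsRlimVia K t L a) {Bs : Set C}
    (hB : IsCoveredBy J Bs)
    (hA : ∀ V ∈ Bs, ∃ d : ℕ, ∀ T ∈ J V, ∃ (ι : Type u) (Y : ι → C) (f : ∀ i, Y i ⟶ V),
      (∀ i, T.arrows (f i)) ∧ Sieve.ofArrows Y f ∈ J V ∧
      ∀ (i : ι) (M : A), P M → ∀ k : ℕ, d < k → S.Van M k (Y i))
    (n : ℕ) (j : ℤ) (hj : N - (n : ℤ) ≤ j) : IsIso ((H j).map (a n)) := by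
  suffices IsIso (S.Φ.map ((H j).map (a n))) from isIso_of_reflects_iso ((H j).map (a n)) S.Φ
  have hfac : ∀ M, ∀ hM : n ≤ M, (H j).map (a n) = (H j).map (a M) ≫ (H j).map (trLE t hM) :=
    fun M hM => by rw [← Functor.map_comp, comp_trLE hL]
  have hinj : ∀ V ∈ Bs, ∀ s, S.hmap (a n) j V s = 0 → s = 0 := fun V hV s hs => by
    obtain ⟨d, hd⟩ := hA V hV
    let M := n + (d + j.natAbs + N.natAbs + 1)
    have := isIso_trLE ht n j hj M (Nat.le_add_right _ _)
    have hs' : S.hmap (a M) j V s = 0 := by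
      refine (DLim.sections_bijective_of_isIso (S.Φ.map ((H j).map (trLE t (Nat.le_add_right n (d + j.natAbs + N.natAbs + 1))))) V).1 ?_
      refine Eq.trans ?_ (map_zero _).symm
      rw [hmap, hfac M (Nat.le_add_right _ _), Functor.map_comp] at hs
      exact hs
    obtain ⟨R, hR, hlift⟩ := S.exists_cover_lift L j V s
    choose x hx using hlift
    have hloc : ∀ (W : C) (f : W ⟶ V) (hf : R f), ∃ R' ∈ J W, ∀ (Z : C) (g : Z ⟶ W), R' g →
        (singleFunctor A 0).map (S.P.map g) ≫ x W f hf ≫ (a M)⟦j⟧' = 0 := fun W f hf => by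
      refine S.exists_cover_eq_zero _ j W _ ?_
      rw [S.cls_comp, hx]
      exact (ConcreteCategory.congr_hom ((S.Φ.map ((H j).map (a M))).hom.naturality f.op) s).trans
        ((congrArg ((S.HDs (K M) j).obj.map f.op).hom hs').trans (map_zero _))
    choose R' hR' hzero using hloc
    obtain ⟨ι, Yf, f, hT, hcov, hgood⟩ := hd (Sieve.bind R.arrows fun W g hg => R' W g hg)
      (J.bind_covering hR fun W g hg => hR' W g hg)
    refine sections_separated _ hcov s 0 ?_
    rintro Z k ⟨Z', b, c, ⟨i⟩, rfl⟩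
    obtain ⟨W, g, q, hq, hg, e⟩ := hT i
    have hy : (singleFunctor A 0).map (S.P.map g) ≫ x W q hq = 0 :=
      S.tower_eq_zero_of_proj ht _ d (hgood i) hL j M (by omega) _
        ((Category.assoc _ _ _).trans (hzero W q hq _ g hg))
    have hfi : ((S.HDs L j).obj.map (f i).op).hom s = 0 := by
      rw [← e, op_comp, Functor.map_comp]
      show ((S.HDs L j).obj.map g.op).hom (((S.HDs L j).obj.map q.op).hom s) = 0
      rw [← hx W q hq, ← S.cls_res, hy, map_zero]
    rw [op_comp, Functor.map_comp]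
    show ((S.HDs L j).obj.map b.op).hom (((S.HDs L j).obj.map (f i).op).hom s) = _
    rw [hfi, map_zero, map_zero]
  refine (Sheaf.isLocallyBijective_iff_isIso (S.Φ.map ((H j).map (a n)))).1
    ⟨⟨fun {U} x y hxy => ?_⟩, ⟨fun {U} s => ?_⟩⟩
  · obtain ⟨ι, Yf, f, hf, hY⟩ := hB U.unop
    refine J.superset_covering ?_ hf
    rintro Z k ⟨Z', b, c, ⟨i⟩, rfl⟩
    refine Sieve.downward_closed _ ?_ b
    refine sub_eq_zero.1 (hinj _ (hY i) _ ?_)
    rw [map_sub, sub_eq_zero]
    exact (ConcreteCategory.congr_hom ((S.Φ.map ((H j).map (a n))).hom.naturality (f i).op) x).trans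
      ((congrArg _ hxy).trans
        (ConcreteCategory.congr_hom ((S.Φ.map ((H j).map (a n))).hom.naturality (f i).op) y).symm)
  · obtain ⟨ι, Yf, f, hf, hY⟩ := hB U
    refine J.transitive hf _ ?_
    rintro Z k ⟨Z', b, c, ⟨i⟩, rfl⟩
    rw [Sieve.pullback_comp]
    refine J.pullback_stable b ?_
    obtain ⟨d, hd⟩ := hA _ (hY i)
    let M := n + (d + j.natAbs + N.natAbs + 1)
    have := isIso_trLE ht n j hj M (Nat.le_add_right _ _)
    obtain ⟨s', hs'⟩ := (DLim.sections_bijective_of_isIso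
      (S.Φ.map ((H j).map (trLE t (Nat.le_add_right n (d + j.natAbs + N.natAbs + 1))))) (Yf i)).2
        (((S.HDs (K n) j).obj.map (f i).op).hom s)
    obtain ⟨R, hR, hlift⟩ := S.exists_cover_lift (K M) j (Yf i) s'
    obtain ⟨κ, Yg, g, hT, hcov, hgood⟩ := hd R hR
    refine J.superset_covering ?_ hcov
    rintro Z' k' ⟨Z'', b', c', ⟨l⟩, rfl⟩
    refine Sieve.downward_closed _ ?_ b'
    obtain ⟨φ, hφ⟩ := hlift _ (g l) (hT l)
    obtain ⟨y, hy⟩ := S.tower_exists_proj_eq ht _ d (hgood l) hL j M (by omega) φ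
    refine ⟨S.cls L j (Yg l) y, ?_⟩
    show S.hmap (a n) j (Yg l) (S.cls L j (Yg l) y) = ((S.HDs (K n) j).obj.map (g l ≫ f i).op).hom s
    rw [op_comp, Functor.map_comp, hmap, hfac M (Nat.le_add_right _ _), Functor.map_comp]
    show S.hmap (trLE t (Nat.le_add_right n (d + j.natAbs + N.natAbs + 1))) j (Yg l) (S.hmap (a M) j (Yg l) (S.cls L j (Yg l) y)) =
      ((S.HDs (K n) j).obj.map (g l).op).hom (((S.HDs (K n) j).obj.map (f i).op).hom s)
    rw [← S.cls_comp (a M), hy, hφ, ← hs']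
    exact ConcreteCategory.congr_hom
      ((S.Φ.map ((H j).map (trLE t (Nat.le_add_right n (d + j.natAbs + N.natAbs + 1))))).hom.naturality (g l).op) s'

end Tower

end Groth.Agent.SiteCmpLib.Secs
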