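import Groth.Agent.SiteCmpLib.Secs.Site
import Groth.Agent.SiteCmpLib.Secs.Amplitude
import Groth.Agent.SiteCmpLib.Secs.Tower
import Groth.Agent.SiteCmpLib.Rlim

/-!
# Direct images of bounded cohomological dimension and cohomology in weak Serre classes
-/

set_option autoImplicit false

universe u

open CategoryTheory CategoryTheory.Limits Opposite DerivedCategory Pretriangulated

attribute [local instance] HasDerivedCategory.standard

namespace Groth.Agent.SiteCmpLib.Secs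

variable {C D : Type u} [SmallCategory C] [SmallCategory D]
  {J : GrothendieckTopology C} {K : GrothendieckTopology D}
  {O_C : Sheaf J CommRingCat.{u}} {O_D : Sheaf K CommRingCat.{u}} (f : ModSite.RMor O_C O_D)
  [HasInjectiveResolutions (ModSite.Mod O_C)] [SiteCmp.HasRpushD f]
  (A : ObjectProperty (ModSite.Mod O_C)) [WSerre.IsWeakSerre A]
  (A' : ObjectProperty (ModSite.Mod O_D)) [WSerre.IsWeakSerre A'] (N : ℤ)
  (h3 : ∀ F : ModSite.Mod O_C, A F → ∀ p : ℕ, A' ((f.Rpush p).obj F))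
  (h4 : ∀ F : ModSite.Mod O_C, A F → ∀ p : ℕ, N < (p : ℤ) → IsZero ((f.Rpush p).obj F))
  (X : DerivedCategory (ModSite.Mod O_C)) (hX : WSerre.cohIn A X)

/-- The tower of direct images of the truncations. -/
noncomputable abbrev pushTower (n : ℕ) : DerivedCategory (ModSite.Mod O_D) :=
  (SiteCmp.RpushD f).obj (CohCx.truncTower X n)

include h3 h4 hX in
lemma goodTower_push :
    GoodTower (K := pushTower f X) A' N (fun n => (SiteCmp.RpushD f).map (CohCx.truncTowerMap X n)) := by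
  intro n
  obtain ⟨F, g, c, hT, hge, hle, ⟨e⟩⟩ := exists_truncFibre' X (-((n + 1 : ℕ) : ℤ)) (-(n : ℤ)) (by omega)
  obtain ⟨δ, hδ⟩ := exists_distinguished_RG f.push _ hT
  obtain ⟨M, ⟨eF⟩⟩ := exists_iso_singleFunctor_obj_of_isGE_of_isLE F (-((n + 1 : ℕ) : ℤ))
  have hM : A M := A.prop_of_iso (e.symm ≪≫
    (homologyFunctor (ModSite.Mod O_C) _).mapIso eF ≪≫
    (singleFunctorCompHomologyFunctorIso _ _).app M) (hX _)
  have hF : WSerre.cohIn A F := (WSerre.cohIn A).prop_of_iso eF.symm (cohIn_single A hM _)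
  refine ⟨(SiteCmp.RpushD f).obj F, (SiteCmp.RpushD f).map g, δ, hδ,
    cohIn_RG f.push A A' h3 F (-((n + 1 : ℕ) : ℤ)) hF,
    ⟨-((n + 1 : ℕ) : ℤ), isGE_RG f.push F _⟩, ?_⟩
  exact (isLE_iff _ _).2 fun i hi =>
    (isZero_homology_RG_single f.push M N (h4 M hM) _ i (by omega)).of_iso
      ((homologyFunctor (ModSite.Mod O_D) i).mapIso ((SiteCmp.RpushD f).mapIso eF))

include h3 h4 hX in
theorem rpushD_cohIn_and_isIso (B : Set C) (B' : Set D) (hB : DLim.IsCoveredBy J B)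
    (hA : ∀ V ∈ B, ∃ d : ℕ, ∀ T ∈ J V, ∃ (ι : Type u) (Y : ι → C) (g : ∀ i, Y i ⟶ V),
      (∀ i, T.arrows (g i)) ∧ Sieve.ofArrows Y g ∈ J V ∧
      ∀ (i : ι) (F : ModSite.Mod O_C), A F → ∀ k : ℕ, d < k → Subsingleton (ModSite.HU O_C F k (Y i)))
    (hB' : DLim.IsCoveredBy K B')
    (hA' : ∀ V ∈ B', ∃ d : ℕ, ∀ T ∈ K V, ∃ (ι : Type u) (Y : ι → D) (g : ∀ i, Y i ⟶ V),
      (∀ i, T.arrows (g i)) ∧ Sieve.ofArrows Y g ∈ K V ∧
      ∀ (i : ι) (F : ModSite.Mod O_D), A' F → ∀ k : ℕ, d < k → Subsingleton (ModSite.HU O_D F k (Y i))) :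
    WSerre.cohIn A' ((SiteCmp.RpushD f).obj X) ∧ ∀ (n : ℕ) (j : ℤ), N - (n : ℤ) ≤ j →
      IsIso ((homologyFunctor (ModSite.Mod O_D) j).map ((SiteCmp.RpushD f).map
        ((TStructure.t.truncGEπ (-(n : ℤ))).app X))) := by
  have := hasProduct_truncTower X
  have : HasProduct (pushTower f X) := by
    have : HasLimitsOfShape (Discrete ℕ) (DerivedCategory (ModSite.Mod O_D)) :=
      TriCat.hasProductsOfShape_derivedCategory fun M => by
        obtain ⟨I, g, hI, hg, -, -⟩ := TriCat.exists_kInjective_resolution' M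
        exact ⟨I, g, hI, hg⟩
    exact inferInstanceAs (HasLimit _)
  have hL := (siteSecs O_C).isRlimVia_trunc X hB (exists_good hX hA)
  have hR := rpushD_isRlimVia f (CohCx.truncTower X) (CohCx.truncTowerMap X) X
    (CohCx.toTruncTower X) hL
  have hiso : ∀ (n : ℕ) (j : ℤ), N - (n : ℤ) ≤ j →
      IsIso ((homologyFunctor (ModSite.Mod O_D) j).map ((SiteCmp.RpushD f).map
        ((TStructure.t.truncGEπ (-(n : ℤ))).app X))) := fun n j hj => by
    refine (siteSecs O_D).isIso_homology_rlim (goodTower_push f A A' N h3 h4 X hX) hR hB'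
      (fun V hV => ?_) n j hj
    obtain ⟨d, hd⟩ := hA' V hV
    refine ⟨d, fun T hT => ?_⟩
    obtain ⟨ι, Y, g, h1, h2, h3'⟩ := hd T hT
    exact ⟨ι, Y, g, h1, h2, fun i M hM k hk => van_of_HU (ModSite.ringSh O_D) M k _ (h3' i M hM k hk)⟩
  refine ⟨fun j => ?_, hiso⟩
  let n : ℕ := (N - j).toNat
  have := hiso n j (by omega)
  refine A'.prop_of_iso (@asIso _ _ _ _ ((homologyFunctor (ModSite.Mod O_D) j).map
    ((SiteCmp.RpushD f).map ((TStructure.t.truncGEπ (-(n : ℤ))).app X))) this).symm ?_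
  have : ((TStructure.t.truncGE (-(n : ℤ))).obj X).IsGE (-(n : ℤ)) :=
    inferInstanceAs (TStructure.t.IsGE _ _)
  exact cohIn_RG f.push A A' h3 _ (-(n : ℤ))
    (H9Misc.WayOut.P_truncGE A (hP := fun Z hZ => prop_of_isZero A hZ) hX _) j

end Groth.Agent.SiteCmpLib.Secs
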