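import Groth.Agent.SiteCmpLib.Secs.Rlim

/-!
# Derived limits of truncations when the dimension bound depends on the degree
-/

set_option autoImplicit false

universe w u

open CategoryTheory CategoryTheory.Limits Opposite Pretriangulated DerivedCategory

namespace Groth.Agent.SiteCmpLib.Secs

open Groth.Agent.DLim (exact₂_mk exact₃_shift rlim_eq_zero rlim_exists_lift rlim_comp_t
  limOne_of_eventually_surjective sections_separated IsCoveredBy isIso_of_bijective_on)

variable {C : Type u} [SmallCategory C] {J : GrothendieckTopology C}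
  {A : Type (u + 1)} [Category.{u} A] [Abelian A] [HasDerivedCategory.{w} A] (S : Secs J A)

local notation "tS" => (DerivedCategory.TStructure.t (C := A))
local notation "H" => DerivedCategory.homologyFunctor A

/-- Degree `m` hypercohomology only sees cohomological degrees up to `p m`. -/
def GoodP (E : DerivedCategory A) (p : ℤ → ℤ) (U : C) : Prop :=
  ∀ (m : ℤ) (k : ℕ), p m < k → S.Van ((H (m - k)).obj E) k U

lemma van_of_goodP {E : DerivedCategory A} {p : ℤ → ℤ} {U : C} (hE : S.GoodP E p U) (a m : ℤ) (k : ℕ)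
    (hk : a + k = m) (hp : p m < m - a) : S.Van ((H a).obj E) k U := by
  have h := hE m k (by omega)
  rwa [show m - (k : ℤ) = a by omega] at h

lemma stepP_injective (E : DerivedCategory A) (p : ℤ → ℤ) (U : C) (hE : S.GoodP E p U) (a b m : ℤ)
    (hb : a + 1 = b) (hd : p m < m - a) (hd0 : a ≤ m) (x : S.PD U ⟶ (((tS).truncGE a).obj E)⟦m⟧)
    (hx : x ≫ (((tS).natTransTruncGEOfLE a b (by omega)).app E)⟦m⟧' = 0) : x = 0 := by
  obtain ⟨F, f, c, hT, _, _, ⟨e⟩⟩ := exists_truncFibre' E a b hb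
  obtain ⟨y, rfl⟩ := exact₂_mk hT m x hx
  rw [S.hom_eq_zero_of_heart F a U (m - a).toNat m (by omega) e (S.van_of_goodP hE a m _ (by omega) hd) y, zero_comp]

lemma step_surjective_P (E : DerivedCategory A) (p : ℤ → ℤ) (U : C) (hE : S.GoodP E p U) (a b m : ℤ)
    (hb : a + 1 = b) (hd : p (m + 1) < m + 1 - a) (hd0 : a ≤ m + 1) (x : S.PD U ⟶ (((tS).truncGE b).obj E)⟦m⟧) :
    ∃ y : S.PD U ⟶ (((tS).truncGE a).obj E)⟦m⟧,
      y ≫ (((tS).natTransTruncGEOfLE a b (by omega)).app E)⟦m⟧' = x := by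
  obtain ⟨F, f, c, hT, _, _, ⟨e⟩⟩ := exists_truncFibre' E a b hb
  refine exact₃_shift _ hT m x ?_
  refine (cancel_mono ((shiftFunctorAdd' _ (1 : ℤ) m (m + 1) (by omega)).inv.app F)).1 ?_
  refine (S.hom_eq_zero_of_heart F a U (m + 1 - a).toNat (m + 1) (by omega) e (S.van_of_goodP hE a (m + 1) _ (by omega) hd)
    _).trans zero_comp.symm

lemma trans_injective_P (E : DerivedCategory A) (p : ℤ → ℤ) (U : C) (hE : S.GoodP E p U) (m : ℤ) :
    ∀ (k : ℕ) (a b : ℤ) (h : a + k = b), p m < m - b + 1 ∧ b ≤ m + 1 →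
      ∀ x : S.PD U ⟶ (((tS).truncGE a).obj E)⟦m⟧,
        x ≫ (((tS).natTransTruncGEOfLE a b (by omega)).app E)⟦m⟧' = 0 → x = 0
  | 0, a, b, h, _, x, hx => by
    obtain rfl : a = b := by omega
    rw [(tS).natTransTruncGEOfLE_refl_app] at hx
    rwa [CategoryTheory.Functor.map_id, Category.comp_id] at hx
  | k + 1, a, b, h, hd, x, hx => by
    refine S.stepP_injective E p U hE a (a + 1) m rfl (by omega) (by omega) x ?_
    refine trans_injective_P E p U hE m k (a + 1) b (by omega) hd _ ?_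
    rw [Category.assoc, ← Functor.map_comp, (tS).natTransTruncGEOfLE_trans_app, hx]

lemma tower_limOne_P (E : DerivedCategory A) (p : ℤ → ℤ) (U : C) (hE : S.GoodP E p U) (m : ℤ)
    (b : ∀ n, S.PD U ⟶ (CohCx.truncTower E n)⟦m⟧) :
    ∃ w : ∀ n, S.PD U ⟶ (CohCx.truncTower E n)⟦m⟧,
      ∀ n, w n - w (n + 1) ≫ (CohCx.truncTowerMap E n)⟦m⟧' = b n :=
  limOne_of_eventually_surjective ((p (m + 1)).natAbs + m.natAbs + 2)
    (fun n => S.PD U ⟶ (CohCx.truncTower E n)⟦m⟧)
    (fun n => Preadditive.rightComp _ ((CohCx.truncTowerMap E n)⟦m⟧'))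
    (fun n hn x => S.step_surjective_P E p U hE _ _ m (by omega) (by omega) (by omega) x) b

section Limit

variable {E L : DerivedCategory A} [HasProduct (CohCx.truncTower E)]
  {a : ∀ n, L ⟶ CohCx.truncTower E n}

/-- Classes of the derived limit are detected by a single truncation. -/
lemma eq_zero_of_proj_P (hL : CohCx.IsRlimVia (CohCx.truncTower E) (CohCx.truncTowerMap E) L a)
    (p : ℤ → ℤ) (U : C) (hE : S.GoodP E p U) (m : ℤ) (N : ℕ) (hN : (p m).natAbs + (p (m + 1)).natAbs + m.natAbs + 3 < N)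
    (x : S.PD U ⟶ L⟦m⟧) (hx : x ≫ (a N)⟦m⟧' = 0) : x = 0 := by
  refine rlim_eq_zero hL m (S.tower_limOne_P E p U hE (m - 1)) x fun n => ?_
  have hbig : x ≫ (a (N + n))⟦m⟧' = 0 := by
    refine S.trans_injective_P E p U hE m n (-((N + n : ℕ) : ℤ)) (-(N : ℤ)) (by omega) (by omega) _ ?_
    rw [Category.assoc, ← Functor.map_comp, S.proj_eq hL N n, hx]
  have hn : x ≫ (a (n + N))⟦m⟧' = 0 := by rw [Nat.add_comm]; exact hbig
  rw [← S.proj_eq hL n N, Functor.map_comp, ← Category.assoc, hn, zero_comp]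

/-- Classes of a truncation lift to the derived limit. -/
lemma exists_proj_eq_P (hL : CohCx.IsRlimVia (CohCx.truncTower E) (CohCx.truncTowerMap E) L a)
    (p : ℤ → ℤ) (U : C) (hE : S.GoodP E p U) (m : ℤ) (N : ℕ) (hN : (p m).natAbs + (p (m + 1)).natAbs + m.natAbs + 3 < N)
    (x : S.PD U ⟶ (CohCx.truncTower E N)⟦m⟧) : ∃ y : S.PD U ⟶ L⟦m⟧, y ≫ (a N)⟦m⟧' = x := by
  choose g hg using fun (n : ℕ) (z : S.PD U ⟶ (CohCx.truncTower E (N + n))⟦m⟧) =>
    S.step_surjective_P E p U hE (-((N + n + 1 : ℕ) : ℤ)) (-((N + n : ℕ) : ℤ)) m (by omega) (by omega) (by omega) z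
  let x' : ∀ n, S.PD U ⟶ (CohCx.truncTower E (N + n))⟦m⟧ := fun n => Nat.rec x (fun k z => g k z) n
  let y : ∀ n : ℕ, S.PD U ⟶ (CohCx.truncTower E n)⟦m⟧ := fun n =>
    x' n ≫ (((tS).natTransTruncGEOfLE (-((N + n : ℕ) : ℤ)) (-(n : ℤ)) (by omega)).app E)⟦m⟧'
  obtain ⟨z, hz⟩ := rlim_exists_lift hL m y fun n => by
    show (x' (n + 1) ≫ _) ≫ _ = x' n ≫ _
    conv_rhs => rw [show x' n = x' (n + 1) ≫ _ from (hg n (x' n)).symm]
    simp only [Category.assoc, ← Functor.map_comp]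
    refine congrArg (fun t => x' (n + 1) ≫ t⟦m⟧') ?_
    exact ((tS).natTransTruncGEOfLE_trans_app _ _ _ _ _ E).trans
      ((tS).natTransTruncGEOfLE_trans_app _ _ _ _ _ E).symm
  refine ⟨z, (hz N).trans ?_⟩
  suffices key : ∀ n : ℕ,
      x' n ≫ (((tS).natTransTruncGEOfLE (-((N + n : ℕ) : ℤ)) (-(N : ℤ)) (by omega)).app E)⟦m⟧' = x from
    key N
  intro n
  induction n with
  | zero =>
    refine (congrArg (fun t => x' 0 ≫ t⟦m⟧') ((tS).natTransTruncGEOfLE_refl_app _ E)).trans ?_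
    rw [CategoryTheory.Functor.map_id, Category.comp_id]
    rfl
  | succ n ih =>
    refine Eq.trans ?_ ih
    conv_rhs => rw [show x' n = x' (n + 1) ≫ _ from (hg n (x' n)).symm]
    simp only [Category.assoc, ← Functor.map_comp]
    refine congrArg (fun t => x' (n + 1) ≫ t⟦m⟧') ?_
    exact ((tS).natTransTruncGEOfLE_trans_app _ _ _ (by omega) (by omega) E).symm

/-- Injectivity on sections of the cohomology. -/
lemma sections_injective_P (hL : CohCx.IsRlimVia (CohCx.truncTower E) (CohCx.truncTowerMap E) L a)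
    (V : C) (p : ℤ → ℤ) (m : ℤ) (N : ℕ) (hN : (p m).natAbs + (p (m + 1)).natAbs + m.natAbs + 3 < N)
    (h : ∀ T ∈ J V, ∃ (ι : Type u) (Y : ι → C) (f : ∀ i, Y i ⟶ V), (∀ i, T.arrows (f i)) ∧
      Sieve.ofArrows Y f ∈ J V ∧ ∀ i, S.GoodP E p (Y i))
    (s : (S.HDs L m).obj.obj (op V)) (hs : S.hmap (a N) m V s = 0) : s = 0 := by
  obtain ⟨R, hR, hlift⟩ := S.exists_cover_lift L m V s
  choose x hx using hlift
  have hloc : ∀ (W : C) (f : W ⟶ V) (hf : R f), ∃ R' ∈ J W, ∀ (Z : C) (g : Z ⟶ W), R' g →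
      (singleFunctor A 0).map (S.P.map g) ≫ x W f hf ≫ (a N)⟦m⟧' = 0 := fun W f hf => by
    refine S.exists_cover_eq_zero _ m W _ ?_
    rw [S.cls_comp, hx]
    exact (ConcreteCategory.congr_hom ((S.Φ.map ((H m).map (a N))).hom.naturality f.op) s).trans
      ((congrArg ((S.HDs (CohCx.truncTower E N) m).obj.map f.op).hom hs).trans (map_zero _))
  choose R' hR' hzero using hloc
  obtain ⟨ι, Y, f, hT, hcov, hgood⟩ := h (Sieve.bind R.arrows fun W g hg => R' W g hg)
    (J.bind_covering hR fun W g hg => hR' W g hg)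
  refine sections_separated _ hcov s 0 ?_
  rintro Z k ⟨Z', b, c, ⟨i⟩, rfl⟩
  obtain ⟨W, g, q, hq, hg, e⟩ := hT i
  have hy : (singleFunctor A 0).map (S.P.map g) ≫ x W q hq = 0 :=
    S.eq_zero_of_proj_P hL p _ (hgood i) m N hN _
      ((Category.assoc _ _ _).trans (hzero W q hq _ g hg))
  have hfi : ((S.HDs L m).obj.map (f i).op).hom s = 0 := by
    rw [← e, op_comp, Functor.map_comp]
    show ((S.HDs L m).obj.map g.op).hom (((S.HDs L m).obj.map q.op).hom s) = 0
    rw [← hx W q hq, ← S.cls_res, hy, map_zero]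
  rw [op_comp, Functor.map_comp]
  show ((S.HDs L m).obj.map b.op).hom (((S.HDs L m).obj.map (f i).op).hom s) = _
  rw [hfi, map_zero, map_zero]

end Limit

/-- `E` is the derived limit of its truncations if its cohomology has locally bounded dimension. -/
theorem isRlimVia_trunc_of_goodP (E : DerivedCategory A) [HasProduct (CohCx.truncTower E)] {B : Set C}
    (hB : IsCoveredBy J B)
    (h : ∀ V ∈ B, ∃ p : ℤ → ℤ, ∀ T ∈ J V, ∃ (ι : Type u) (Y : ι → C) (f : ∀ i, Y i ⟶ V),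
      (∀ i, T.arrows (f i)) ∧ Sieve.ofArrows Y f ∈ J V ∧ ∀ i, S.GoodP E p (Y i)) :
    CohCx.IsRlimVia (CohCx.truncTower E) (CohCx.truncTowerMap E) E (CohCx.toTruncTower E) := by
  obtain ⟨L, a, e, hL, hea, hfin⟩ := exists_trunc_comparison' E
  refine hfin fun m => ?_
  suffices IsIso (S.Φ.map ((H m).map e)) from isIso_of_reflects_iso ((H m).map e) S.Φ
  refine isIso_of_bijective_on _ hB fun V hV => ?_
  obtain ⟨p, hd⟩ := h V hV
  let N : ℕ := (p m).natAbs + (p (m + 1)).natAbs + m.natAbs + 4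
  have := H9Misc.isIso_map_truncGEπ (-(N : ℤ)) m (by omega) E
  have hπ := DLim.sections_bijective_of_isIso (S.Φ.map ((H m).map (CohCx.toTruncTower E N))) V
  have hinj : ∀ s, S.hmap (a N) m V s = 0 → s = 0 :=
    S.sections_injective_P hL  V p m N (by omega) hd
  have hcomp : ∀ x, S.hmap (CohCx.toTruncTower E N) m V x = S.hmap (a N) m V (S.hmap e m V x) :=
    fun x => by
      rw [← hea N]
      simp only [hmap, Functor.map_comp]
      rfl
  refine ⟨fun x y hxy => hπ.1 ?_, fun y => ?_⟩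
  · exact (hcomp x).trans ((congrArg _ hxy).trans (hcomp y).symm)
  · obtain ⟨x, hx⟩ := hπ.2 (S.hmap (a N) m V y)
    refine ⟨x, sub_eq_zero.1 (hinj _ ?_)⟩
    rw [map_sub, sub_eq_zero]
    exact (hcomp x).symm.trans hx

end Groth.Agent.SiteCmpLib.Secs
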