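import Groth.Agent.SiteCmpLib.Secs.Tower

/-!
# Derived limits of towers whose cohomology is eventually constant in each degree
-/

set_option autoImplicit false

universe w u

open CategoryTheory CategoryTheory.Limits Opposite Pretriangulated DerivedCategory

namespace Groth.Agent.SiteCmpLib.Secs

open Groth.Agent.DLim (exact₂_mk exact₃_shift rlim_eq_zero rlim_exists_lift rlim_comp_t
  limOne_of_eventually_surjective sections_separated IsCoveredBy)

variable {C : Type u} [SmallCategory C] {J : GrothendieckTopology C}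
  {A : Type (u + 1)} [Category.{u} A] [Abelian A] [HasDerivedCategory.{w} A] (S : Secs J A)

local notation "tS" => (DerivedCategory.TStructure.t (C := A))
local notation "H" => DerivedCategory.homologyFunctor A

/-- One truncation step with no cohomology in the degree removed. -/
lemma step_injective_of_isZero (E : DerivedCategory A) (U : C) (a b m : ℤ) (hb : a + 1 = b) (hm : a ≤ m)
    (hz : IsZero ((H a).obj E)) (x : S.PD U ⟶ (((tS).truncGE a).obj E)⟦m⟧)
    (hx : x ≫ (((tS).natTransTruncGEOfLE a b (by omega)).app E)⟦m⟧' = 0) : x = 0 := by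
  obtain ⟨F, f, c, hT, _, _, ⟨e⟩⟩ := exists_truncFibre' E a b hb
  obtain ⟨y, rfl⟩ := exact₂_mk hT m x hx
  rw [S.hom_eq_zero_of_heart F a U (m - a).toNat m (by omega) e
    (fun φ => (((shiftFunctor _ _).map_isZero ((singleFunctor A 0).map_isZero hz))).eq_of_tgt _ _) y, zero_comp]

/-- An object with good cohomology and none in the degrees `[m - d, m]` has no classes in degree `m`. -/
lemma hom_eq_zero_of_gap (E : DerivedCategory A) (d : ℕ) (U : C) (hE : S.Good E d U) (a m : ℤ) [E.IsGE a]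
    (hz : ∀ q, m - d ≤ q → q ≤ m → IsZero ((H q).obj E)) (x : S.PD U ⟶ E⟦m⟧) : x = 0 := by
  have key : ∀ (k : ℕ) (c : ℤ), c + k = m + 1 → ∀ y : S.PD U ⟶ (((tS).truncGE c).obj E)⟦m⟧, y = 0 := by
    intro k
    induction k with
    | zero =>
      intro c hc y
      have hGE : (((tS).truncGE c).obj E).IsGE c := (tS).isGE_truncGE_obj ..
      haveI : ((((tS).truncGE c).obj E)⟦m⟧).IsGE 1 := (tS).isGE_shift _ c m 1 (by omega)
      exact (tS).zero y 0 1 (by omega)
    | succ k ih =>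
      intro c hc y
      by_cases hd : (d : ℤ) < m - c
      · exact S.step_injective E d U hE c (c + 1) m rfl hd y (ih (c + 1) (by push_cast at hc; omega) _)
      · exact S.step_injective_of_isZero E U c (c + 1) m rfl (by omega) (hz c (by omega) (by omega)) y
          (ih (c + 1) (by push_cast at hc; omega) _)
  have hp : IsIso (((tS).truncGEπ (min a (m + 1))).app E) := by
    rw [← (tS).isGE_iff_isIso_truncGEπ_app]
    exact (tS).isGE_of_ge E (min a (m + 1)) a (min_le_left _ _)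
  refine (cancel_mono ((((tS).truncGEπ (min a (m + 1))).app E)⟦m⟧')).1 ?_
  exact (key (m + 1 - min a (m + 1)).toNat _ (by omega) _).trans zero_comp.symm

/-- The cohomology of a tower is constant in degree `j` from stage `n₀ j` on. -/
def ConstFrom {K : ℕ → DerivedCategory A} (t : ∀ n, K (n + 1) ⟶ K n) (n₀ : ℤ → ℕ) : Prop :=
  ∀ (j : ℤ) (n : ℕ), n₀ j ≤ n → IsIso ((H j).map (t n))

section Tower

variable {K : ℕ → DerivedCategory A} {t : ∀ n, K (n + 1) ⟶ K n} {n₀ : ℤ → ℕ}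
  (hconst : ConstFrom t n₀)
  (P : ObjectProperty A) [WSerre.IsWeakSerre P] (hK : ∀ n, WSerre.cohInPlus P (K n))

include hconst in
lemma isIso_trLE_of_const (i : ℕ) (j : ℤ) (hj : n₀ j ≤ i) (l : ℕ) (h : i ≤ l) :
    IsIso ((H j).map (trLE t h)) := by
  induction l, h using Nat.le_induction with
  | base => rw [trLE_self]; infer_instance
  | succ l h ih =>
    rw [← trLE_comp h (Nat.le_add_right l 1), trLE_succ, Functor.map_comp]
    exact IsIso.comp_isIso' (hconst j l (hj.trans h)) ih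

include hconst hK in
/-- The fibre of a transition map. -/
lemma exists_fibre (n : ℕ) :
    ∃ (F : DerivedCategory A) (f : F ⟶ K (n + 1)) (c : K n ⟶ F⟦(1 : ℤ)⟧),
      Triangle.mk f (t n) c ∈ distinguishedTriangles ∧ WSerre.cohIn P F ∧
      (∃ b : ℤ, F.IsGE b) ∧ ∀ q : ℤ, n₀ q ≤ n → n₀ (q - 1) ≤ n → IsZero ((H q).obj F) := by
  obtain ⟨F, f, c, hT⟩ := distinguished_cocone_triangle₁ (t n)
  refine ⟨F, f, c, hT, fun i => ?_, ?_, fun q hq hq' => ?_⟩
  · exact prop_of_five (HomologySequence.exact₃ _ hT (i - 1) i (by omega))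
      (HomologySequence.exact₁ _ hT (i - 1) i (by omega)) (HomologySequence.exact₂ _ hT i)
      ((hK (n + 1)).1 (i - 1)) ((hK n).1 (i - 1)) ((hK (n + 1)).1 i) ((hK n).1 i)
  · obtain ⟨a, ha⟩ := (hK (n + 1)).2
    obtain ⟨b, hb⟩ := (hK n).2
    haveI : (K (n + 1)).IsGE a := ha
    haveI : (K n).IsGE b := hb
    refine ⟨min a b, (isGE_iff _ _).2 fun q hq => ?_⟩
    exact (HomologySequence.exact₁ _ hT (q - 1) q (by omega)).isZero_of_both_zeros
      ((isZero_of_isGE (K n) b (q - 1) (by omega)).eq_of_src _ _)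
      ((isZero_of_isGE (K (n + 1)) a q (by omega)).eq_of_tgt _ _)
  · have h1 := hconst q n hq
    have h2 := hconst (q - 1) n hq'
    exact (HomologySequence.exact₁ _ hT (q - 1) q (by omega)).isZero_of_both_zeros
      ((HomologySequence.epi_homologyMap_mor₂_iff _ hT (q - 1) q (by omega)).1 (@IsIso.epi_of_iso _ _ _ _ _ h2))
      ((HomologySequence.mono_homologyMap_mor₂_iff _ hT q).1 (@IsIso.mono_of_iso _ _ _ _ _ h1))

/-- A stage past which the degrees around `j` are constant. -/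
def bound (n₀ : ℤ → ℕ) (d : ℕ) (j : ℤ) : ℕ := ∑ k ∈ Finset.range (d + 4), n₀ (j - d - 2 + k)

lemma le_bound (n₀ : ℤ → ℕ) (d : ℕ) (j q : ℤ) (h1 : j - d - 2 ≤ q) (h2 : q ≤ j + 1) : n₀ q ≤ bound n₀ d j := by
  obtain ⟨k, rfl⟩ : ∃ k : ℕ, q = j - d - 2 + k := ⟨(q - (j - d - 2)).toNat, by omega⟩
  exact Finset.single_le_sum (f := fun k : ℕ => n₀ (j - d - 2 + k)) (fun _ _ => Nat.zero_le _)
    (Finset.mem_range.2 (by omega))

variable [HasProduct K] {L : DerivedCategory A} {a : ∀ n, L ⟶ K n}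
variable (U : C) (d : ℕ) (hU : ∀ M, P M → ∀ k : ℕ, d < k → S.Van M k U)

include hconst hK hU in
omit [HasProduct K] in
lemma stat_injective (n : ℕ) (m : ℤ) (hn : ∀ q, m - d - 1 ≤ q → q ≤ m → n₀ q ≤ n)
    (x : S.PD U ⟶ (K (n + 1))⟦m⟧) (hx : x ≫ (t n)⟦m⟧' = 0) : x = 0 := by
  obtain ⟨F, f, c, hT, hPF, ⟨b, hb⟩, hz⟩ := exists_fibre hconst P hK n
  obtain ⟨y, rfl⟩ := exact₂_mk hT m x hx
  rw [S.hom_eq_zero_of_gap F d U (fun q k hk => hU _ (hPF q) k hk) b m
    (fun q h1 h2 => hz q (hn q (by omega) h2) (hn (q - 1) (by omega) (by omega))) y, zero_comp]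

include hconst hK hU in
omit [HasProduct K] in
lemma stat_surjective (n : ℕ) (m : ℤ) (hn : ∀ q, m - d ≤ q → q ≤ m + 1 → n₀ q ≤ n)
    (x : S.PD U ⟶ (K n)⟦m⟧) : ∃ y : S.PD U ⟶ (K (n + 1))⟦m⟧, y ≫ (t n)⟦m⟧' = x := by
  obtain ⟨F, f, c, hT, hPF, ⟨b, hb⟩, hz⟩ := exists_fibre hconst P hK n
  refine exact₃_shift _ hT m x ?_
  refine (cancel_mono ((shiftFunctorAdd' _ (1 : ℤ) m (m + 1) (by omega)).inv.app F)).1 ?_
  refine (S.hom_eq_zero_of_gap F d U (fun q k hk => hU _ (hPF q) k hk) b (m + 1)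
    (fun q h1 h2 => hz q (hn q (by omega) h2) (hn (q - 1) (by omega) (by omega))) _).trans zero_comp.symm

variable {P} (hP : ∀ n, WSerre.cohInPlus P (K n))

include hconst hP hU in
lemma stat_eq_zero_of_proj (hL : CohCx.IsRlimVia K t L a) (m : ℤ) (M : ℕ)
    (hM : ∀ q, m - d - 2 ≤ q → q ≤ m + 1 → n₀ q ≤ M) (x : S.PD U ⟶ L⟦m⟧) (hx : x ≫ (a M)⟦m⟧' = 0) : x = 0 := by
  refine rlim_eq_zero hL m (fun b => limOne_of_eventually_surjective M
    (fun n => S.PD U ⟶ (K n)⟦m - 1⟧) (fun n => Preadditive.rightComp _ ((t n)⟦m - 1⟧'))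
    (fun n hn z => S.stat_surjective hconst P hP U d hU n (m - 1)
      (fun q h1 h2 => (hM q (by omega) (by omega)).trans hn) z) b) x fun n => ?_
  have hbig : ∀ l (h : M ≤ l), x ≫ (a l)⟦m⟧' = 0 :=
    Nat.le_induction hx fun l h ih => S.stat_injective hconst P hP U d hU l m
      (fun q h1 h2 => (hM q (by omega) (by omega)).trans h) _ (by
        rw [Category.assoc, ← Functor.map_comp, rlim_comp_t hL, ih])
  rw [← comp_trLE hL n (n + M) (Nat.le_add_right n M), Functor.map_comp, ← Category.assoc,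
    hbig _ (Nat.le_add_left M n), zero_comp]

include hconst hP hU in
lemma stat_exists_proj_eq (hL : CohCx.IsRlimVia K t L a) (m : ℤ) (M : ℕ)
    (hM : ∀ q, m - d - 2 ≤ q → q ≤ m + 1 → n₀ q ≤ M) (x : S.PD U ⟶ (K M)⟦m⟧) :
    ∃ y : S.PD U ⟶ L⟦m⟧, y ≫ (a M)⟦m⟧' = x := by
  choose g hg using fun (n : ℕ) (z : S.PD U ⟶ (K (M + n))⟦m⟧) =>
    S.stat_surjective hconst P hP U d hU (M + n) m
      (fun q h1 h2 => (hM q (by omega) h2).trans (Nat.le_add_right M n)) z
  let x' : ∀ n, S.PD U ⟶ (K (M + n))⟦m⟧ := fun n => Nat.rec x (fun k z => g k z) n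
  let y : ∀ n : ℕ, S.PD U ⟶ (K n)⟦m⟧ := fun n => x' n ≫ (trLE t (Nat.le_add_left n M))⟦m⟧'
  have hx' : ∀ n, x' (n + 1) ≫ (trLE t (Nat.le_add_right (M + n) 1))⟦m⟧' = x' n := fun n => by
    rw [trLE_succ]; exact hg n (x' n)
  obtain ⟨z, hz⟩ := rlim_exists_lift hL m y fun n => by
    show (x' (n + 1) ≫ _) ≫ _ = x' n ≫ _
    rw [← hx' n, Category.assoc, Category.assoc, ← Functor.map_comp, ← Functor.map_comp,
      ← trLE_succ (t := t) n, trLE_comp, trLE_comp]
  refine ⟨z, (hz M).trans ?_⟩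
  suffices key : ∀ n : ℕ, x' n ≫ (trLE t (Nat.le_add_right M n))⟦m⟧' = x from key M
  intro n
  induction n with
  | zero =>
    show x ≫ (trLE t (le_refl M))⟦m⟧' = x
    rw [trLE_self, CategoryTheory.Functor.map_id, Category.comp_id]
  | succ n ih =>
    conv_rhs => rw [← ih, ← hx' n]
    rw [Category.assoc, ← Functor.map_comp, trLE_comp]

include hconst hP in
/-- The derived limit agrees with the members of the tower where the cohomology has stabilised. -/
theorem isIso_homology_rlim_of_const (hL : CohCx.IsRlimVia K t L a) {Bs : Set C}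
    (hB : IsCoveredBy J Bs)
    (hA : ∀ V ∈ Bs, ∃ d : ℕ, ∀ T ∈ J V, ∃ (ι : Type u) (Y : ι → C) (f : ∀ i, Y i ⟶ V),
      (∀ i, T.arrows (f i)) ∧ Sieve.ofArrows Y f ∈ J V ∧
      ∀ (i : ι) (M : A), P M → ∀ k : ℕ, d < k → S.Van M k (Y i))
    (j : ℤ) (n : ℕ) (hj : n₀ j ≤ n) : IsIso ((H j).map (a n)) := by
  suffices IsIso (S.Φ.map ((H j).map (a n))) from isIso_of_reflects_iso ((H j).map (a n)) S.Φ
  have hfac : ∀ M, ∀ hM : n ≤ M, (H j).map (a n) = (H j).map (a M) ≫ (H j).map (trLE t hM) :=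
    fun M hM => by rw [← Functor.map_comp, comp_trLE hL]
  have hinj : ∀ V ∈ Bs, ∀ s, S.hmap (a n) j V s = 0 → s = 0 := fun V hV s hs => by
    obtain ⟨d, hd⟩ := hA V hV
    let M := n + (bound n₀ d j)
    have := isIso_trLE_of_const hconst n j hj M (Nat.le_add_right _ _)
    have hM : ∀ q, j - d - 2 ≤ q → q ≤ j + 1 → n₀ q ≤ M := fun q h1 h2 =>
      (le_bound n₀ d j q h1 h2).trans (Nat.le_add_left _ _)
    have hs' : S.hmap (a M) j V s = 0 := by
      refine (DLim.sections_bijective_of_isIso (S.Φ.map ((H j).map (trLE t (Nat.le_add_right n (bound n₀ d j))))) V).1 ?_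
      refine Eq.trans ?_ (map_zero _).symm
      rw [hmap, hfac M (Nat.le_add_right _ _), Functor.map_comp] at hs
      exact hs
    obtain ⟨R, hR, hlift⟩ := S.exists_cover_lift L j V s
    choose x hx using hlift
    have hloc : ∀ (W : C) (f : W ⟶ V) (hf : R f), ∃ R' ∈ J W, ∀ (Z : C) (g : Z ⟶ W), R' g →
        (singleFunctor A 0).map (S.P.map g) ≫ x W f hf ≫ (a M)⟦j⟧' = 0 := fun W f hf => by
      refine S.exists_cover_eq_zero _ j W _ ?_
      rw [S.cls_comp, hx]
      exact (ConcreteCategory.congr_hom ((S.Φ.map ((H j).map (a M))).hom.naturality f.op) s).trans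
        ((congrArg ((S.HDs (K M) j).obj.map f.op).hom hs').trans (map_zero _))
    choose R' hR' hzero using hloc
    obtain ⟨ι, Yf, f, hT, hcov, hgood⟩ := hd (Sieve.bind R.arrows fun W g hg => R' W g hg)
      (J.bind_covering hR fun W g hg => hR' W g hg)
    refine sections_separated _ hcov s 0 ?_
    rintro Z k ⟨Z', b, c, ⟨i⟩, rfl⟩
    obtain ⟨W, g, q, hq, hg, e⟩ := hT i
    have hy : (singleFunctor A 0).map (S.P.map g) ≫ x W q hq = 0 :=
      S.stat_eq_zero_of_proj hconst _ d (hgood i) hP hL j M hM _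
        ((Category.assoc _ _ _).trans (hzero W q hq _ g hg))
    have hfi : ((S.HDs L j).obj.map (f i).op).hom s = 0 := by
      rw [← e, op_comp, Functor.map_comp]
      show ((S.HDs L j).obj.map g.op).hom (((S.HDs L j).obj.map q.op).hom s) = 0
      rw [← hx W q hq, ← S.cls_res, hy, map_zero]
    rw [op_comp, Functor.map_comp]
    show ((S.HDs L j).obj.map b.op).hom (((S.HDs L j).obj.map (f i).op).hom s) = _
    rw [hfi, map_zero, map_zero]
  refine (Sheaf.isLocallyBijective_iff_isIso (S.Φ.map ((H j).map (a n)))).1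
    ⟨⟨fun {U} x y hxy => ?_⟩, ⟨fun {U} s => ?_⟩⟩
  · obtain ⟨ι, Yf, f, hf, hY⟩ := hB U.unop
    refine J.superset_covering ?_ hf
    rintro Z k ⟨Z', b, c, ⟨i⟩, rfl⟩
    refine Sieve.downward_closed _ ?_ b
    refine sub_eq_zero.1 (hinj _ (hY i) _ ?_)
    rw [map_sub, sub_eq_zero]
    exact (ConcreteCategory.congr_hom ((S.Φ.map ((H j).map (a n))).hom.naturality (f i).op) x).trans
      ((congrArg _ hxy).trans
        (ConcreteCategory.congr_hom ((S.Φ.map ((H j).map (a n))).hom.naturality (f i).op) y).symm)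
  · obtain ⟨ι, Yf, f, hf, hY⟩ := hB U
    refine J.transitive hf _ ?_
    rintro Z k ⟨Z', b, c, ⟨i⟩, rfl⟩
    rw [Sieve.pullback_comp]
    refine J.pullback_stable b ?_
    obtain ⟨d, hd⟩ := hA _ (hY i)
    let M := n + (bound n₀ d j)
    have := isIso_trLE_of_const hconst n j hj M (Nat.le_add_right _ _)
    have hM : ∀ q, j - d - 2 ≤ q → q ≤ j + 1 → n₀ q ≤ M := fun q h1 h2 =>
      (le_bound n₀ d j q h1 h2).trans (Nat.le_add_left _ _)
    obtain ⟨s', hs'⟩ := (DLim.sections_bijective_of_isIso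
      (S.Φ.map ((H j).map (trLE t (Nat.le_add_right n (bound n₀ d j))))) (Yf i)).2
        (((S.HDs (K n) j).obj.map (f i).op).hom s)
    obtain ⟨R, hR, hlift⟩ := S.exists_cover_lift (K M) j (Yf i) s'
    obtain ⟨κ, Yg, g, hT, hcov, hgood⟩ := hd R hR
    refine J.superset_covering ?_ hcov
    rintro Z' k' ⟨Z'', b', c', ⟨l⟩, rfl⟩
    refine Sieve.downward_closed _ ?_ b'
    obtain ⟨φ, hφ⟩ := hlift _ (g l) (hT l)
    obtain ⟨y, hy⟩ := S.stat_exists_proj_eq hconst _ d (hgood l) hP hL j M hM φ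
    refine ⟨S.cls L j (Yg l) y, ?_⟩
    show S.hmap (a n) j (Yg l) (S.cls L j (Yg l) y) = ((S.HDs (K n) j).obj.map (g l ≫ f i).op).hom s
    rw [op_comp, Functor.map_comp, hmap, hfac M (Nat.le_add_right _ _), Functor.map_comp]
    show S.hmap (trLE t (Nat.le_add_right n (bound n₀ d j))) j (Yg l) (S.hmap (a M) j (Yg l) (S.cls L j (Yg l) y)) =
      ((S.HDs (K n) j).obj.map (g l).op).hom (((S.HDs (K n) j).obj.map (f i).op).hom s)
    rw [← S.cls_comp (a M), hy, hφ, ← hs']
    exact ConcreteCategory.congr_hom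
      ((S.Φ.map ((H j).map (trLE t (Nat.le_add_right n (bound n₀ d j))))).hom.naturality (g l).op) s'

end Tower

end Groth.Agent.SiteCmpLib.Secs
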