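import Groth.Agent.SiteCmpLib.Secs.SiteTower
import Groth.Agent.SiteCmpLib.FlatUnbounded

/-!
# Equivalences of derived categories with cohomology in weak Serre classes
-/

set_option autoImplicit false

universe w w' v v' u u'

open CategoryTheory CategoryTheory.Limits Opposite DerivedCategory Pretriangulated

namespace Groth.Agent.SiteCmpLib.Secs

section

variable {A : Type u} [Category.{v} A] [Abelian A] [IsGrothendieckAbelian.{v} A]
  [HasDerivedCategory.{w} A] {B : Type u'} [Category.{v'} B] [Abelian B]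
  [HasDerivedCategory.{w'} B] {G : A ⥤ B} [G.Additive]
  [(G.mapHomotopyCategory (ComplexShape.up ℤ) ⋙ Qh).HasRightDerivedFunctor
      (HomotopyCategory.quasiIso A (ComplexShape.up ℤ))]
  {F : B ⥤ A} [F.Additive] [PreservesFiniteLimits F] [PreservesFiniteColimits F]
  (adj : F.mapDerivedCategory ⊣ RG G) {P : ObjectProperty B} [WSerre.IsWeakSerre P]
  {Q : ObjectProperty A}

include adj in
/-- The higher direct images vanish on the essential image if the unit is invertible. -/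
lemma rightDerived_of_unit (hFG : ∀ M : A, Q M → ∃ M', P M' ∧ Nonempty (F.obj M' ≅ M))
    (hu : ∀ M' : B, P M' → IsIso (adj.unit.app ((singleFunctor B 0).obj M'))) (M : A) (hM : Q M) :
    (∀ p : ℕ, P ((G.rightDerived p).obj M)) ∧
      ∀ p : ℕ, (0 : ℤ) < (p : ℤ) → IsZero ((G.rightDerived p).obj M) := by
  obtain ⟨M', hM', ⟨e⟩⟩ := hFG M hM
  have := hu M' hM'
  let E : (singleFunctor B 0).obj M' ≅ (RG G).obj ((singleFunctor A 0).obj M) :=
    asIso (adj.unit.app ((singleFunctor B 0).obj M')) ≪≫ (RG G).mapIso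
      ((F.mapDerivedCategorySingleFunctor 0).app M' ≪≫ (singleFunctor A 0).mapIso e)
  obtain ⟨h1, -⟩ := nonempty_homology_RG_single G M
  refine ⟨fun p => ?_, fun p hp => ?_⟩
  · obtain ⟨e1⟩ := h1 p
    exact P.prop_of_iso e1 ((WSerre.cohIn P).prop_of_iso E (cohIn_single P hM' 0) _)
  · obtain ⟨e1⟩ := h1 p
    exact ((isZero_of_isLE ((singleFunctor B 0).obj M') 0 p hp).of_iso
      ((homologyFunctor B (p : ℤ)).mapIso E).symm).of_iso e1.symm

end

section

universe w₀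

variable {C D : Type w₀} [SmallCategory C] [SmallCategory D]
  {J : GrothendieckTopology C} {K : GrothendieckTopology D}
  {O_C : Sheaf J CommRingCat.{w₀}} {O_D : Sheaf K CommRingCat.{w₀}}

attribute [local instance] HasDerivedCategory.standard

variable (f : ModSite.RMor O_C O_D) [PreservesFiniteLimits f.pull] [SiteCmp.HasRpushD f]
  (adj : SiteCmp.pullD f ⊣ SiteCmp.RpushD f)
  (A : ObjectProperty (ModSite.Mod O_C)) [WSerre.IsWeakSerre A]
  (A' : ObjectProperty (ModSite.Mod O_D)) [WSerre.IsWeakSerre A']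
  (h2a : ∀ F' : ModSite.Mod O_D, A' F' → A (f.pull.obj F'))
  (h2c : ∀ F : ModSite.Mod O_C, A F → ∃ F' : ModSite.Mod O_D, A' F' ∧ Nonempty (f.pull.obj F' ≅ F))
  (h3 : ∀ F' : ModSite.Mod O_D, A' F' → IsIso (adj.unit.app (SiteCmp.inD O_D F')))
  (B : Set C) (B' : Set D) (hB : DLim.IsCoveredBy J B)
  (hA : ∀ V ∈ B, ∃ d : ℕ, ∀ T ∈ J V, ∃ (ι : Type w₀) (Y : ι → C) (g : ∀ i, Y i ⟶ V),
    (∀ i, T.arrows (g i)) ∧ Sieve.ofArrows Y g ∈ J V ∧
    ∀ (i : ι) (F : ModSite.Mod O_C), A F → ∀ k : ℕ, d < k → Subsingleton (ModSite.HU O_C F k (Y i)))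
  (hB' : DLim.IsCoveredBy K B')

include h2a h2c h3 hB hA hB'

theorem equivalence_upstairs
    (hA' : ∀ V ∈ B', ∃ d : ℕ, ∀ T ∈ K V, ∃ (ι : Type w₀) (Y : ι → D) (g : ∀ i, Y i ⟶ V),
      (∀ i, T.arrows (g i)) ∧ Sieve.ofArrows Y g ∈ K V ∧
      ∀ (i : ι) (F : ModSite.Mod O_C), A F → ∀ k : ℕ, d < k →
        Subsingleton (ModSite.HU O_C F k (f.fn.obj (Y i)))) :
    (∀ Y : DerivedCategory (ModSite.Mod O_D), WSerre.cohIn A' Y →
      WSerre.cohIn A ((SiteCmp.pullD f).obj Y) ∧ IsIso (adj.unit.app Y)) ∧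
    (∀ X : DerivedCategory (ModSite.Mod O_C), WSerre.cohIn A X →
      WSerre.cohIn A' ((SiteCmp.RpushD f).obj X) ∧ IsIso (adj.counit.app X)) := by
  refine equivalence_of_truncation adj h2a h2c h3 fun X hX n j hj => ?_
  exact isIso_homology_rpushD_truncGE f A B B' hB hA hB' hA' 0
    (fun M hM => (rightDerived_of_unit adj h2c h3 M hM).2) X hX n j (by omega)

theorem equivalence_downstairs
    (hA' : ∀ V ∈ B', ∃ d : ℕ, ∀ T ∈ K V, ∃ (ι : Type w₀) (Y : ι → D) (g : ∀ i, Y i ⟶ V),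
      (∀ i, T.arrows (g i)) ∧ Sieve.ofArrows Y g ∈ K V ∧
      ∀ (i : ι) (F : ModSite.Mod O_D), A' F → ∀ k : ℕ, d < k → Subsingleton (ModSite.HU O_D F k (Y i))) :
    (∀ Y : DerivedCategory (ModSite.Mod O_D), WSerre.cohIn A' Y →
      WSerre.cohIn A ((SiteCmp.pullD f).obj Y) ∧ IsIso (adj.unit.app Y)) ∧
    (∀ X : DerivedCategory (ModSite.Mod O_C), WSerre.cohIn A X →
      WSerre.cohIn A' ((SiteCmp.RpushD f).obj X) ∧ IsIso (adj.counit.app X)) := by
  refine equivalence_of_truncation adj h2a h2c h3 fun X hX n j hj => ?_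
  exact (rpushD_cohIn_and_isIso f A A' 0 (fun M hM => (rightDerived_of_unit adj h2c h3 M hM).1)
    (fun M hM => (rightDerived_of_unit adj h2c h3 M hM).2) X hX B B' hB hA hB' hA').2 n j (by omega)

end

end Groth.Agent.SiteCmpLib.Secs
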