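import Groth.Agent.SiteCmpLib.Secs.SiteEquiv
import Groth.Agent.SiteCmpLib.Secs.Vanish
import Groth.Agent.SiteCmpLib.WeakSerreMap

/-!
# Comparison of two topologies for modules
-/

set_option autoImplicit false

universe u

open CategoryTheory CategoryTheory.Limits Opposite DerivedCategory

attribute [local instance] HasDerivedCategory.standard

namespace Groth.Agent.SiteCmpLib.Secs

section

universe w w' v v' u₁ u₂

variable {A : Type u₁} [Category.{v} A] [Abelian A] [IsGrothendieckAbelian.{v} A]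
  [HasDerivedCategory.{w} A] {B : Type u₂} [Category.{v'} B] [Abelian B]
  [HasDerivedCategory.{w'} B] {G : A ⥤ B} [G.Additive]
  [(G.mapHomotopyCategory (ComplexShape.up ℤ) ⋙ Qh).HasRightDerivedFunctor
      (HomotopyCategory.quasiIso A (ComplexShape.up ℤ))]
  {F : B ⥤ A} [F.Additive] [PreservesFiniteLimits F] [PreservesFiniteColimits F]
  (adj : F.mapDerivedCategory ⊣ RG G) (adj₀ : F ⊣ G) [G.Full] [G.Faithful]

include adj₀ in
/-- The unit is invertible on images of objects without higher derived functors. -/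
lemma unit_single_of_vanishing (P : ObjectProperty A)
    (hv : ∀ M, P M → ∀ p : ℕ, 0 < p → IsZero ((G.rightDerived p).obj M)) :
    ∀ F', P.map G F' → IsIso (adj.unit.app ((singleFunctor B 0).obj F')) := by
  rintro F' ⟨M, hM, ⟨e⟩⟩
  have hF : ∀ X' : B, Function.Bijective (fun v : X' ⟶ F' => F.map v) := fun X' => by
    let j : F.obj F' ≅ M := F.mapIso e.symm ≪≫ asIso (adj₀.counit.app M)
    refine Function.Bijective.of_comp_iff' (j.homToEquiv (Z := F.obj X')).bijective _ |>.1 ?_
    convert ((e.symm.homToEquiv (Z := X')).trans (adj₀.homEquiv X' M).symm).bijective using 1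
    funext v
    simp [j, adj₀.homEquiv_counit]
  let T := F.mapDerivedCategory.obj ((singleFunctor B 0).obj F')
  let i : T ≅ (singleFunctor A 0).obj M := (F.mapDerivedCategorySingleFunctor 0).app F' ≪≫
    (singleFunctor A 0).mapIso (F.mapIso e.symm ≪≫ asIso (adj₀.counit.app M))
  have hGE := isGE_RG G ((singleFunctor A 0).obj M) 0
  have hLE : ((RG G).obj ((singleFunctor A 0).obj M)).IsLE 0 := (isLE_iff _ _).2 fun q hq =>
    isZero_homology_RG_single G M 0 (fun p hp => hv M hM p (by omega)) 0 q (by omega)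
  obtain ⟨N, ⟨k⟩⟩ := exists_iso_singleFunctor_obj_of_isGE_of_isLE ((RG G).obj ((singleFunctor A 0).obj M)) 0
  let k' : (RG G).obj T ≅ (singleFunctor B 0).obj N := (RG G).mapIso i ≪≫ k
  obtain ⟨u, hu⟩ := (singleFunctor B 0).map_surjective
    (adj.unit.app ((singleFunctor B 0).obj F') ≫ k'.hom)
  have : ∀ X' : B, Function.Bijective (fun v : X' ⟶ F' => v ≫ u) := fun X' => by
    refine Function.Bijective.of_comp_iff'
      (⟨(singleFunctor B 0).map_injective, (singleFunctor B 0).map_surjective⟩ :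
        Function.Bijective ((singleFunctor B 0).map : (X' ⟶ N) → _)) _ |>.1 ?_
    have hd : Function.Bijective (fun v : X' ⟶ F' =>
        F.mapDerivedCategory.map ((singleFunctor B 0).map v)) := by
      let α := F.mapDerivedCategorySingleFunctor 0
      have hs : Function.Bijective (fun v : X' ⟶ F' => (singleFunctor A 0).map (F.map v)) :=
        Function.Bijective.comp ⟨(singleFunctor A 0).map_injective,
          (singleFunctor A 0).map_surjective⟩ (hF X')
      refine Function.Bijective.of_comp_iff'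
        ((α.app X').homCongr (α.app F')).bijective _ |>.1 ?_
      refine (congrArg Function.Bijective (funext fun v => ?_)).mpr hs
      exact ((Iso.inv_comp_eq _).2 (α.hom.naturality v))
    convert k'.homToEquiv.bijective.comp ((adj.homEquiv _ T).bijective.comp hd) using 1
    funext v
    show (singleFunctor B 0).map (v ≫ u) = (adj.homEquiv _ _) (F.mapDerivedCategory.map _) ≫ k'.hom
    rw [Functor.map_comp, hu, adj.homEquiv_unit]
    exact (Category.assoc _ _ _).symm.trans (congrArg (· ≫ k'.hom) (adj.unit.naturality _))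
  have hu' : IsIso u := by
    obtain ⟨v, hv'⟩ := (this N).2 (𝟙 N)
    exact ⟨v, (this F').1 (by simp [hv']), hv'⟩
  have : IsIso (adj.unit.app ((singleFunctor B 0).obj F') ≫ k'.hom) := by
    rw [← hu]; infer_instance
  exact IsIso.of_isIso_comp_right _ k'.hom

end

variable {C : Type u} [SmallCategory C] {J J' : GrothendieckTopology C} (h : J' ≤ J)
  (O : Sheaf J CommRingCat.{u})

lemma eps_push_faithful : (SiteCmp.eps h O).push.Faithful where
  map_injective {M N f g} e := by
    apply SheafOfModules.hom_ext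
    refine PresheafOfModules.hom_ext (fun X => ?_)
    ext m
    exact congrArg (fun φ => ((PresheafOfModules.toPresheaf _).map φ.val).app X |>.hom m) e

lemma eps_push_full : (SiteCmp.eps h O).push.Full where
  map_surjective {M N} φ := by
    let ψ : M.val.presheaf ⟶ N.val.presheaf :=
      { app := fun X => ((PresheafOfModules.toPresheaf _).map φ.val).app X
        naturality := fun X Y f => ((PresheafOfModules.toPresheaf _).map φ.val).naturality f }
    refine ⟨⟨PresheafOfModules.homMk ψ fun X r m => by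
      exact @LinearMap.map_smul' _ _ _ _ _ _ _ _ _ _ _ ((φ.val.app X).hom) r m⟩, ?_⟩
    apply SheafOfModules.hom_ext
    refine PresheafOfModules.hom_ext (fun X => ?_)
    ext m
    rfl

variable (A : ObjectProperty (ModSite.Mod O)) [WSerre.IsWeakSerre A] (B : Set C)
  (h3 : DLim.IsCoveredBy J' B)
  (h4 : ∀ U ∈ B, ∀ F : ModSite.Mod O, A F → ∀ p : ℕ, 0 < p → Subsingleton (ModSite.HU O F p U))

include h3 in
/-- Coverings can be refined by objects of `B`. -/
lemma exists_refine (K : GrothendieckTopology C) (hK : J' ≤ K) (V : C) (T : Sieve V) (hT : T ∈ K V) :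
    ∃ (ι : Type u) (Y : ι → C) (g : ∀ i, Y i ⟶ V),
      (∀ i, T.arrows (g i)) ∧ Sieve.ofArrows Y g ∈ K V ∧ ∀ i, Y i ∈ B := by
  choose ι Y g hg hY using h3
  refine ⟨Σ (a : Σ W, {f : W ⟶ V // T f}), ι a.1, fun i => Y i.1.1 i.2,
    fun i => g i.1.1 i.2 ≫ i.1.2.1, fun i => T.downward_closed i.1.2.2 _, ?_, fun i => hY _ _⟩
  refine K.transitive hT _ fun W f hf => ?_
  refine K.superset_covering ?_ (hK _ (hg W))
  rintro Z k ⟨Z', a, b, ⟨i⟩, rfl⟩
  rw [Sieve.pullback_apply, Category.assoc]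
  exact Sieve.downward_closed _ (Sieve.ofArrows_mk _ (fun i => g i.1.1 i.2 ≫ i.1.2.1)
    (⟨⟨W, f, hf⟩, i⟩ : Σ (a : Σ W, {f : W ⟶ V // T f}), ι a.1)) a

include h3 h4 in
lemma eps_epi_push {S : ShortComplex (ModSite.Mod O)} (hS : S.ShortExact) (h₁ : A S.X₁) :
    Epi ((SiteCmp.eps h O).push.map S.g) := by
  let ψ := (siteSecs (SiteCmp.epsRing h O)).Φ.map ((SiteCmp.eps h O).push.map S.g)
  suffices Epi ψ from (siteSecs (SiteCmp.epsRing h O)).Φ.epi_of_epi_map this
  rw [← Sheaf.isLocallySurjective_iff_epi']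
  refine ⟨fun {U} s => ?_⟩
  obtain ⟨ι, Yf, g, hg, hY⟩ := h3 U
  refine J'.superset_covering ?_ hg
  rintro Z k ⟨Z', a, b, ⟨i⟩, rfl⟩
  refine Sieve.downward_closed _ ?_ a
  exact (siteSecs O).sec_surjective_of_van hS (Yf i)
    (van_of_HU (ModSite.ringSh O) _ 1 _ (h4 _ (hY i) _ h₁ 1 zero_lt_one)) _

include h3 h4 in
theorem isWeakSerre_map_eps [PreservesFiniteLimits (SiteCmp.eps h O).pull] :
    WSerre.IsWeakSerre (A.map (SiteCmp.eps h O).push) := by
  have := eps_push_faithful h O
  have := eps_push_full h O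
  exact SiteCmpLib.isWeakSerre_map _ _ (SiteCmp.eps h O).adj A
    fun S hS h₁ => eps_epi_push h O A B h3 h4 hS h₁

include h3 h4 in
lemma isZero_rpush_eps [SiteCmp.HasRpushD (SiteCmp.eps h O)] (M : ModSite.Mod O) (hM : A M)
    (p : ℕ) (hp : 0 < p) : IsZero (((SiteCmp.eps h O).Rpush p).obj M) := by
  refine isZero_rightDerived_of_van (SiteCmp.eps h O).push (pushData (SiteCmp.eps h O)) M p
    fun V T hT => ?_
  obtain ⟨ι, Y, g, h1, h2, h3'⟩ := exists_refine B h3 J' le_rfl V T hT
  exact ⟨ι, Y, g, h1, h2, fun i =>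
    van_of_HU (ModSite.ringSh O) _ p _ (h4 _ (h3' i) _ hM p hp)⟩

variable [PreservesFiniteLimits (SiteCmp.eps h O).pull] [SiteCmp.HasRpushD (SiteCmp.eps h O)]
  (adj : SiteCmp.pullD (SiteCmp.eps h O) ⊣ SiteCmp.RpushD (SiteCmp.eps h O))

include h3 h4 in
theorem eps_equivalence :
    WSerre.IsWeakSerre (A.map (SiteCmp.eps h O).push) ∧
    (∀ Y : DerivedCategory (ModSite.Mod (SiteCmp.epsRing h O)),
      WSerre.cohIn (A.map (SiteCmp.eps h O).push) Y →
      WSerre.cohIn A ((SiteCmp.pullD (SiteCmp.eps h O)).obj Y) ∧ IsIso (adj.unit.app Y)) ∧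
    (∀ X : DerivedCategory (ModSite.Mod O), WSerre.cohIn A X →
      WSerre.cohIn (A.map (SiteCmp.eps h O).push) ((SiteCmp.RpushD (SiteCmp.eps h O)).obj X) ∧
        IsIso (adj.counit.app X)) := by
  have := eps_push_faithful h O
  have := eps_push_full h O
  have := isWeakSerre_map_eps h O A B h3 h4
  have h2a : ∀ F', A.map (SiteCmp.eps h O).push F' → A ((SiteCmp.eps h O).pull.obj F') :=
    fun F' ⟨X, hX, ⟨e⟩⟩ => A.prop_of_iso ((asIso ((SiteCmp.eps h O).adj.counit.app X)).symm ≪≫
      (SiteCmp.eps h O).pull.mapIso e) hX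
  have h2c : ∀ F, A F → ∃ F', A.map (SiteCmp.eps h O).push F' ∧
      Nonempty ((SiteCmp.eps h O).pull.obj F' ≅ F) := fun F hF =>
    ⟨_, A.prop_map_obj _ hF, ⟨asIso ((SiteCmp.eps h O).adj.counit.app F)⟩⟩
  have hr : ∀ V ∈ B, ∃ d : ℕ, ∀ T ∈ J V, ∃ (ι : Type u) (Y : ι → C) (g : ∀ i, Y i ⟶ V),
      (∀ i, T.arrows (g i)) ∧ Sieve.ofArrows Y g ∈ J V ∧
      ∀ (i : ι) (F : ModSite.Mod O), A F → ∀ k : ℕ, d < k → Subsingleton (ModSite.HU O F k (Y i)) :=
    fun V _ => ⟨0, fun T hT => by
      obtain ⟨ι, Y, g, h1, h2, hY⟩ := exists_refine B h3 J h V T hT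
      exact ⟨ι, Y, g, h1, h2, fun i F hF k hk => h4 _ (hY i) F hF k hk⟩⟩
  refine ⟨inferInstance, equivalence_upstairs (SiteCmp.eps h O) adj A _ h2a h2c ?_ B B
    (fun U => by obtain ⟨ι, Y, g, h1, h2⟩ := h3 U; exact ⟨ι, Y, g, h _ h1, h2⟩) hr h3
    fun V _ => ⟨0, fun T hT => ?_⟩⟩
  · exact unit_single_of_vanishing adj (SiteCmp.eps h O).adj A
      (fun M hM => isZero_rpush_eps h O A B h3 h4 M hM)
  · obtain ⟨ι, Y, g, h1, h2, hY⟩ := exists_refine B h3 J' le_rfl V T hT
    exact ⟨ι, Y, g, h1, h2, fun i F hF k hk => h4 _ (hY i) F hF k hk⟩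

end Groth.Agent.SiteCmpLib.Secs
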