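import Groth.Agent.SiteCmpLib.Secs.H0

/-!
# Hypercohomology classes and cohomology sheaves
-/

set_option autoImplicit false

universe w v' u' u

open CategoryTheory CategoryTheory.Limits Opposite Pretriangulated DerivedCategory

namespace Groth.Agent.SiteCmpLib.Secs

variable {C : Type u} [SmallCategory C] {J : GrothendieckTopology C}
  {A : Type u'} [Category.{v'} A] [Abelian A] [HasDerivedCategory.{w} A] (S : Secs J A)

/-- `P U` as an object of the derived category. -/
noncomputable abbrev PD (U : C) : DerivedCategory A := (singleFunctor A 0).obj (S.P.obj U)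

/-- The underlying sheaf of the cohomology. -/
noncomputable abbrev HDs (X : DerivedCategory A) (m : ℤ) : Sheaf J AddCommGrpCat.{u} :=
  S.Φ.obj ((homologyFunctor A m).obj X)

/-- The action on sections of the cohomology of a morphism. -/
noncomputable abbrev hmap {X Y : DerivedCategory A} (g : X ⟶ Y) (m : ℤ) (U : C) :
    (S.HDs X m).obj.obj (op U) →+ (S.HDs Y m).obj.obj (op U) :=
  ((S.Φ.map ((homologyFunctor A m).map g)).hom.app (op U)).hom

/-- `H⁰(X⟦m⟧) ≅ H^m X`. -/
noncomputable def sIso (X : DerivedCategory A) (m : ℤ) :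
    (homologyFunctor A 0).obj (X⟦m⟧) ≅ (homologyFunctor A m).obj X :=
  ((homologyFunctor A 0).shiftIso m 0 m (by simp)).app X

lemma sIso_hom_naturality {X Y : DerivedCategory A} (g : X ⟶ Y) (m : ℤ) :
    (homologyFunctor A 0).map (g⟦m⟧') ≫ (sIso Y m).hom =
      (sIso X m).hom ≫ (homologyFunctor A m).map g :=
  ((homologyFunctor A 0).shiftIso m 0 m (by simp)).hom.naturality g

/-- `Hom(P U, X⟦m⟧) → Γ(U, H^m X)`. -/
noncomputable def cls (X : DerivedCategory A) (m : ℤ) (U : C) :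
    (S.PD U ⟶ X⟦m⟧) →+ (S.HDs X m).obj.obj (op U) :=
  (S.sec U _).toAddMonoidHom.comp (AddMonoidHom.mk'
    (fun φ => h0 φ ≫ (sIso X m).hom)
    (fun φ ψ => by
      show h0 (φ + ψ) ≫ _ = _
      rw [h0_add, Preadditive.add_comp]))

lemma cls_apply (X : DerivedCategory A) (m : ℤ) (U : C) (φ : S.PD U ⟶ X⟦m⟧) :
    S.cls X m U φ = S.sec U _ (h0 φ ≫ (sIso X m).hom) :=
  rfl

lemma cls_res (X : DerivedCategory A) (m : ℤ) {U V : C} (f : V ⟶ U) (φ : S.PD U ⟶ X⟦m⟧) :
    S.cls X m V ((singleFunctor A 0).map (S.P.map f) ≫ φ) =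
      ((S.HDs X m).obj.map f.op).hom (S.cls X m U φ) := by
  rw [cls_apply, cls_apply, h0_precomp, Category.assoc, S.sec_map]

lemma cls_comp {X Y : DerivedCategory A} (g : X ⟶ Y) (m : ℤ) (U : C) (φ : S.PD U ⟶ X⟦m⟧) :
    S.cls Y m U (φ ≫ g⟦m⟧') = S.hmap g m U (S.cls X m U φ) := by
  rw [cls_apply, cls_apply, h0_comp, Category.assoc, sIso_hom_naturality, ← Category.assoc,
    S.sec_comp]

/-- A class with zero image in the cohomology sheaf dies on a cover. -/
lemma exists_cover_eq_zero (X : DerivedCategory A) (m : ℤ) (U : C) (φ : S.PD U ⟶ X⟦m⟧)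
    (h : S.cls X m U φ = 0) :
    ∃ R ∈ J U, ∀ (V : C) (f : V ⟶ U), R f → (singleFunctor A 0).map (S.P.map f) ≫ φ = 0 := by
  refine exists_cover_h0_eq_zero S φ ?_
  rw [cls_apply] at h
  exact (cancel_mono (sIso X m).hom).1
    (((S.sec U _).injective (h.trans (map_zero _).symm)).trans zero_comp.symm)

/-- Sections of the cohomology sheaf lift locally to classes. -/
lemma exists_cover_lift (X : DerivedCategory A) (m : ℤ) (U : C)
    (s : (S.HDs X m).obj.obj (op U)) :
    ∃ R ∈ J U, ∀ (V : C) (f : V ⟶ U), R f →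
      ∃ φ, S.cls X m V φ = ((S.HDs X m).obj.map f.op).hom s := by
  obtain ⟨R, hR, hlift⟩ := exists_cover_h0_lift S
    ((S.sec U _).symm s ≫ (sIso X m).inv)
  refine ⟨R, hR, fun V f hf => ?_⟩
  obtain ⟨φ, hφ⟩ := hlift V f hf
  refine ⟨φ, ?_⟩
  rw [cls_apply, hφ]
  rw [Category.assoc, Category.assoc, Iso.inv_hom_id, Category.comp_id, S.sec_map,
    AddEquiv.apply_symm_apply]

end Groth.Agent.SiteCmpLib.Secs
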