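import Groth.Agent.SiteCmpLib.Secs.H0

/-!
# Cohomology sheaves of complexes through local cycles
-/

set_option autoImplicit false

universe v' u' u

open CategoryTheory CategoryTheory.Limits Opposite

namespace Groth.Agent.SiteCmpLib.Secs

variable {D : Type u} [SmallCategory D] {K : GrothendieckTopology D}
  {B : Type u'} [Category.{v'} B] [Abelian B] (S : Secs K B)
  (L : CochainComplex B ℤ) (j : ℤ)

/-- A cycle over `V`. -/
abbrev Cyc (V : D) (z : S.P.obj V ⟶ L.X j) : Prop := z ≫ L.d j (j + 1) = 0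

/-- A boundary over `V`. -/
def Bdry (V : D) (z : S.P.obj V ⟶ L.X j) : Prop :=
  ∃ w : S.P.obj V ⟶ L.X (j - 1), w ≫ L.d (j - 1) j = z

variable {L j}

lemma Cyc.map {L' : CochainComplex B ℤ} {V : D} {z : S.P.obj V ⟶ L.X j} (h : S.Cyc L j V z)
    (φ : L ⟶ L') : S.Cyc L' j V (z ≫ φ.f j) := by
  show (z ≫ φ.f j) ≫ L'.d j (j + 1) = 0
  rw [Category.assoc, φ.comm, ← Category.assoc, show z ≫ L.d j (j + 1) = 0 from h, zero_comp]

lemma Cyc.res {V W : D} (g : W ⟶ V) {z : S.P.obj V ⟶ L.X j} (h : S.Cyc L j V z) :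
    S.Cyc L j W (S.P.map g ≫ z) := by
  show (S.P.map g ≫ z) ≫ _ = 0
  rw [Category.assoc, show z ≫ L.d j (j + 1) = 0 from h, comp_zero]

/-- The section of the cohomology sheaf defined by a cycle. -/
noncomputable def cycCls {V : D} (z : S.P.obj V ⟶ L.X j) (h : S.Cyc L j V z) :
    (S.Φ.obj (L.homology j)).obj.obj (op V) :=
  S.sec V _ (L.liftCycles z (j + 1) (by simp) h ≫ L.homologyπ j)

lemma cycCls_res {V W : D} (g : W ⟶ V) (z : S.P.obj V ⟶ L.X j) (h : S.Cyc L j V z) :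
    ((S.Φ.obj (L.homology j)).obj.map g.op).hom (S.cycCls z h) =
      S.cycCls (S.P.map g ≫ z) (h.res S g) := by
  rw [cycCls, cycCls, ← S.sec_map]
  refine congrArg (S.sec W _) ((Category.assoc _ _ _).symm.trans (congrArg (· ≫ _) ?_))
  rw [← cancel_mono (L.iCycles j), Category.assoc, HomologicalComplex.liftCycles_i,
    HomologicalComplex.liftCycles_i]

lemma cycCls_map {L' : CochainComplex B ℤ} (φ : L ⟶ L') {V : D} (z : S.P.obj V ⟶ L.X j)
    (h : S.Cyc L j V z) :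
    ((S.Φ.map (HomologicalComplex.homologyMap φ j)).hom.app (op V)).hom (S.cycCls z h) =
      S.cycCls (z ≫ φ.f j) (h.map S φ) := by
  rw [cycCls, cycCls, ← S.sec_comp]
  refine congrArg (S.sec V _) ((Category.assoc _ _ _).trans ?_)
  rw [HomologicalComplex.homologyπ_naturality, ← Category.assoc]
  refine congrArg (· ≫ _) ?_
  rw [← cancel_mono (L'.iCycles j), Category.assoc, HomologicalComplex.cyclesMap_i,
    HomologicalComplex.liftCycles_i_assoc, HomologicalComplex.liftCycles_i]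

lemma cycCls_eq_zero_of_bdry {V : D} (z : S.P.obj V ⟶ L.X j) (h : S.Cyc L j V z)
    (hb : S.Bdry L j V z) : S.cycCls z h = 0 := by
  obtain ⟨w, rfl⟩ := hb
  have e : L.liftCycles (w ≫ L.d (j - 1) j) (j + 1) (by simp) h = w ≫ L.toCycles (j - 1) j := by
    rw [← cancel_mono (L.iCycles j), HomologicalComplex.liftCycles_i, Category.assoc,
      HomologicalComplex.toCycles_i]
  rw [cycCls, e, Category.assoc, HomologicalComplex.toCycles_comp_homologyπ, comp_zero, map_zero]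

variable (L j) in
/-- Every section of the cohomology sheaf comes locally from cycles. -/
lemma exists_cyc_lift {V : D} (s : (S.Φ.obj (L.homology j)).obj.obj (op V)) :
    ∃ R ∈ K V, ∀ (W : D) (g : W ⟶ V), R g → ∃ (z : S.P.obj W ⟶ L.X j) (h : S.Cyc L j W z),
      S.cycCls z h = ((S.Φ.obj (L.homology j)).obj.map g.op).hom s := by
  obtain ⟨R, hR, hl⟩ := S.exists_lift (L.homologyπ j) ((S.sec V _).symm s)
  refine ⟨R, hR, fun W g hg => ?_⟩
  obtain ⟨a, ha⟩ := hl W g hg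
  have h : S.Cyc L j W (a ≫ L.iCycles j) := by
    show (a ≫ L.iCycles j) ≫ _ = 0
    rw [Category.assoc, HomologicalComplex.iCycles_d, comp_zero]
  refine ⟨a ≫ L.iCycles j, h, ?_⟩
  have e : L.liftCycles (a ≫ L.iCycles j) (j + 1) (by simp) h = a := by
    rw [← cancel_mono (L.iCycles j), HomologicalComplex.liftCycles_i]
  rw [cycCls, e, ha, S.sec_map, AddEquiv.apply_symm_apply]

/-- A cycle of class zero is locally a boundary. -/
lemma exists_bdry_cover {V : D} (z : S.P.obj V ⟶ L.X j) (h : S.Cyc L j V z)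
    (h0 : S.cycCls z h = 0) :
    ∃ R ∈ K V, ∀ (W : D) (g : W ⟶ V), R g → S.Bdry L j W (S.P.map g ≫ z) := by
  have hz : L.liftCycles z (j + 1) (by simp) h ≫ L.homologyπ j = 0 :=
    (S.sec V _).injective (h0.trans (map_zero _).symm)
  have hex : (ShortComplex.mk (L.toCycles (j - 1) j) (L.homologyπ j) (by simp)).Exact :=
    ShortComplex.exact_of_g_is_cokernel _ (L.homologyIsCokernel (j - 1) j (by simp))
  obtain ⟨A', p, hp, x₁, hx⟩ := hex.exact_up_to_refinements _ hz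
  obtain ⟨R, hR, hl⟩ := S.exists_lift p (𝟙 (S.P.obj V))
  refine ⟨R, hR, fun W g hg => ?_⟩
  obtain ⟨a, ha⟩ := hl W g hg
  rw [Category.comp_id] at ha
  refine ⟨a ≫ x₁, ?_⟩
  rw [← L.toCycles_i (j - 1) j, ← ha]
  simp only [Category.assoc]
  rw [← reassoc_of% hx, HomologicalComplex.liftCycles_i]

open Groth.Agent.DLim (sections_separated)

/-- Injectivity on sections. -/
theorem sections_injective_of_cyc {L' : CochainComplex B ℤ} (φ : L ⟶ L') (V : D)
    (hV : ∀ T ∈ K V, ∃ (ι : Type u) (Y : ι → D) (g : ∀ i, Y i ⟶ V), (∀ i, T.arrows (g i)) ∧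
      Sieve.ofArrows Y g ∈ K V ∧ ∀ (i : ι) (z : S.P.obj (Y i) ⟶ L.X j), S.Cyc L j (Y i) z →
        S.Bdry L' j (Y i) (z ≫ φ.f j) → S.Bdry L j (Y i) z)
    (s : (S.Φ.obj (L.homology j)).obj.obj (op V))
    (hs : ((S.Φ.map (HomologicalComplex.homologyMap φ j)).hom.app (op V)).hom s = 0) : s = 0 := by
  obtain ⟨R, hR, hl⟩ := S.exists_cyc_lift L j s
  choose z hz hzs using hl
  have hloc : ∀ (W : D) (f : W ⟶ V) (hf : R f), ∃ R' ∈ K W, ∀ (Z : D) (g : Z ⟶ W), R' g →
      S.Bdry L' j Z (S.P.map g ≫ z W f hf ≫ φ.f j) := fun W f hf => by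
    refine S.exists_bdry_cover (z W f hf ≫ φ.f j) ((hz W f hf).map S φ) ?_
    rw [← S.cycCls_map φ (z W f hf) (hz W f hf), hzs]
    exact (ConcreteCategory.congr_hom
      ((S.Φ.map (HomologicalComplex.homologyMap φ j)).hom.naturality f.op) s).trans
      ((congrArg ((S.Φ.obj (L'.homology j)).obj.map f.op).hom hs).trans (map_zero _))
  choose R' hR' hb using hloc
  obtain ⟨ι, Yf, f, hT, hcov, hgood⟩ := hV (Sieve.bind R.arrows fun W g hg => R' W g hg)
    (K.bind_covering hR fun W g hg => hR' W g hg)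
  refine sections_separated _ hcov s 0 ?_
  rintro Z k ⟨Z', b, c, ⟨i⟩, rfl⟩
  obtain ⟨W, g, q, hq, hg, e⟩ := hT i
  have hy : S.Bdry L j (Yf i) (S.P.map g ≫ z W q hq) :=
    hgood i _ ((hz W q hq).res S g) (by rw [Category.assoc]; exact hb W q hq _ g hg)
  have hfi : ((S.Φ.obj (L.homology j)).obj.map (f i).op).hom s = 0 := by
    rw [← e, op_comp, Functor.map_comp]
    show ((S.Φ.obj (L.homology j)).obj.map g.op).hom
      (((S.Φ.obj (L.homology j)).obj.map q.op).hom s) = 0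
    rw [← hzs W q hq, S.cycCls_res, S.cycCls_eq_zero_of_bdry _ _ hy]
  rw [op_comp, Functor.map_comp]
  show ((S.Φ.obj (L.homology j)).obj.map b.op).hom
    (((S.Φ.obj (L.homology j)).obj.map (f i).op).hom s) = _
  rw [hfi, map_zero, map_zero]

/-- Local surjectivity on sections. -/
theorem sections_locallySurjective_of_cyc {L' : CochainComplex B ℤ} (φ : L ⟶ L') (V : D)
    (hV : ∀ T ∈ K V, ∃ (ι : Type u) (Y : ι → D) (g : ∀ i, Y i ⟶ V), (∀ i, T.arrows (g i)) ∧
      Sieve.ofArrows Y g ∈ K V ∧ ∀ (i : ι) (z' : S.P.obj (Y i) ⟶ L'.X j), S.Cyc L' j (Y i) z' →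
        ∃ z : S.P.obj (Y i) ⟶ L.X j, S.Cyc L j (Y i) z ∧
          S.Bdry L' j (Y i) (z ≫ φ.f j - z'))
    (s' : (S.Φ.obj (L'.homology j)).obj.obj (op V)) :
    Presheaf.imageSieve (S.Φ.map (HomologicalComplex.homologyMap φ j)).hom s' ∈ K V := by
  obtain ⟨R, hR, hl⟩ := S.exists_cyc_lift L' j s'
  obtain ⟨ι, Yf, f, hT, hcov, hgood⟩ := hV R hR
  refine K.superset_covering ?_ hcov
  rintro Z k ⟨Z', b, c, ⟨i⟩, rfl⟩
  refine Sieve.downward_closed _ ?_ b
  obtain ⟨z', hz', hzs'⟩ := hl (Yf i) (f i) (hT i)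
  obtain ⟨z, hz, hb⟩ := hgood i z' hz'
  refine ⟨S.cycCls z hz, (S.cycCls_map φ z hz).trans (Eq.trans ?_ hzs')⟩
  have hd : S.Cyc L' j (Yf i) (z ≫ φ.f j - z') := by
    show (z ≫ φ.f j - z') ≫ _ = 0
    rw [Preadditive.sub_comp, show (z ≫ φ.f j) ≫ _ = 0 from hz.map S φ,
      show z' ≫ _ = 0 from hz', sub_self]
  have h0 := S.cycCls_eq_zero_of_bdry _ hd hb
  rw [← sub_eq_zero, ← h0, cycCls, cycCls, cycCls, ← map_sub, ← Preadditive.sub_comp]
  refine congrArg (fun t => S.sec (Yf i) _ (t ≫ L'.homologyπ j)) ?_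
  rw [← cancel_mono (L'.iCycles j), Preadditive.sub_comp, HomologicalComplex.liftCycles_i,
    HomologicalComplex.liftCycles_i, HomologicalComplex.liftCycles_i]

end Groth.Agent.SiteCmpLib.Secs
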