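import Groth.Agent.SiteCmpLib.Secs.Push
import Groth.Agent.TriCat.KInjRes
import Groth.Agent.SiteBase.DLim.Trunc

/-!
# Sections of the cohomology of a derived functor
-/

set_option autoImplicit false

universe w w' v u' v' u'' u

open CategoryTheory CategoryTheory.Limits Opposite DerivedCategory

namespace Groth.Agent.SiteCmpLib.Secs

variable {A : Type u'} [Category.{v} A] [Abelian A] [IsGrothendieckAbelian.{v} A]
  [HasDerivedCategory.{w} A] {H : Type u''} [Category.{v'} H]

theorem isIso_unit_of_kInj (F : HomotopyCategory A (ComplexShape.up ℤ) ⥤ H)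
    [F.HasRightDerivedFunctor (HomotopyCategory.quasiIso A (ComplexShape.up ℤ))]
    (I : CochainComplex A ℤ) [I.IsKInjective] :
    IsIso ((F.totalRightDerivedUnit DerivedCategory.Qh
      (HomotopyCategory.quasiIso A (ComplexShape.up ℤ))).app
        ((HomotopyCategory.quotient A (ComplexShape.up ℤ)).obj I)) := by
  have := TriCat.qh_isLeftAdjoint_of_exists_resolution (A := A) fun L => by
    obtain ⟨I, f, hI, hf, -, -⟩ := TriCat.exists_kInjective_resolution' L
    exact ⟨I, f, hI, hf⟩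
  let adjQ := Adjunction.ofIsLeftAdjoint (DerivedCategory.Qh (C := A))
  let ρ := (DerivedCategory.Qh (C := A)).rightAdjoint
  let W := HomotopyCategory.quasiIso A (ComplexShape.up ℤ)
  have : (ρ ⋙ F).IsRightDerivedFunctor (Functor.whiskerRight adjQ.unit F) W :=
    TriCat.isRightDerivedFunctor_of_adjunction adjQ W F
  let η := F.totalRightDerivedUnit DerivedCategory.Qh W
  let i := Functor.rightDerivedUnique (ρ ⋙ F) (F.totalRightDerived DerivedCategory.Qh W)
    (Functor.whiskerRight adjQ.unit F : F ⟶ DerivedCategory.Qh ⋙ ρ ⋙ F) η W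
  let X := (HomotopyCategory.quotient A (ComplexShape.up ℤ)).obj I
  have hu : IsIso (adjQ.unit.app X) := TriCat.isIso_unit_of_isKInjective adjQ I
  have h : F.map (adjQ.unit.app X) ≫ i.hom.app (DerivedCategory.Qh.obj X) = η.app X :=
    (Functor.rightDerivedNatTrans_app (ρ ⋙ F) (F.totalRightDerived DerivedCategory.Qh W)
      (Functor.whiskerRight adjQ.unit F : F ⟶ DerivedCategory.Qh ⋙ ρ ⋙ F) η W (𝟙 _) X).trans
      (Category.id_comp _)
  have h1 : IsIso (F.map (adjQ.unit.app X)) := inferInstance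
  show IsIso (η.app X)
  rw [← h]
  exact IsIso.comp_isIso' h1 inferInstance

variable {B : Type u''} [Category.{v'} B] [Abelian B] [HasDerivedCategory.{w'} B]
  (G : A ⥤ B) [G.Additive]
  [(G.mapHomotopyCategory (ComplexShape.up ℤ) ⋙ Qh).HasRightDerivedFunctor
      (HomotopyCategory.quasiIso A (ComplexShape.up ℤ))]

/-- The right derived functor of `G`. -/
noncomputable abbrev RG : DerivedCategory A ⥤ DerivedCategory B :=
  (G.mapHomotopyCategory (ComplexShape.up ℤ) ⋙ Qh).totalRightDerived Qh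
    (HomotopyCategory.quasiIso A (ComplexShape.up ℤ))

lemma exists_kInj_model {X Y : DerivedCategory A} (g : X ⟶ Y) (j : ℤ) :
    ∃ (I I' : CochainComplex A ℤ) (_ : I.IsKInjective) (_ : I'.IsKInjective) (φ : I ⟶ I')
      (a : Q.obj I ≅ X) (a' : Q.obj I' ≅ Y)
      (e : ((G.mapHomologicalComplex (ComplexShape.up ℤ)).obj I).homology j ≅
        (homologyFunctor B j).obj ((RG G).obj X))
      (e' : ((G.mapHomologicalComplex (ComplexShape.up ℤ)).obj I').homology j ≅
        (homologyFunctor B j).obj ((RG G).obj Y)),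
      Q.map φ ≫ a'.hom = a.hom ≫ g ∧
      HomologicalComplex.homologyMap ((G.mapHomologicalComplex (ComplexShape.up ℤ)).map φ) j ≫ e'.hom =
        e.hom ≫ (homologyFunctor B j).map ((RG G).map g) := by
  obtain ⟨I, s, hI, hs, -, -⟩ := TriCat.exists_kInjective_resolution' (Q.objPreimage X)
  obtain ⟨I', s', hI', hs', -, -⟩ := TriCat.exists_kInjective_resolution' (Q.objPreimage Y)
  have h1 : IsIso (Q.map s) := Localization.inverts Q
    (HomologicalComplex.quasiIso A (ComplexShape.up ℤ)) s hs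
  have h2 : IsIso (Q.map s') := Localization.inverts Q
    (HomologicalComplex.quasiIso A (ComplexShape.up ℤ)) s' hs'
  let a : Q.obj I ≅ X := (asIso (Q.map s)).symm ≪≫ Q.objObjPreimageIso X
  let a' : Q.obj I' ≅ Y := (asIso (Q.map s')).symm ≪≫ Q.objObjPreimageIso Y
  obtain ⟨φ', hφ'⟩ := (CochainComplex.IsKInjective.Qh_map_bijective
    ((HomotopyCategory.quotient A (ComplexShape.up ℤ)).obj I) I').2
    ((quotientCompQhIso A).hom.app I ≫ a.hom ≫ g ≫ a'.inv ≫ (quotientCompQhIso A).inv.app I')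
  obtain ⟨φ, rfl⟩ := (HomotopyCategory.quotient A (ComplexShape.up ℤ)).map_surjective φ'
  let F := G.mapHomotopyCategory (ComplexShape.up ℤ) ⋙ Qh
  let W := HomotopyCategory.quasiIso A (ComplexShape.up ℤ)
  let q := HomotopyCategory.quotient A (ComplexShape.up ℤ)
  let η := F.totalRightDerivedUnit Qh W
  let Gc := G.mapHomologicalComplex (ComplexShape.up ℤ)
  let fI : Q.obj (Gc.obj I) ≅ F.obj (q.obj I) := (quotientCompQhIso B).symm.app (Gc.obj I)
  let fI' : Q.obj (Gc.obj I') ≅ F.obj (q.obj I') := (quotientCompQhIso B).symm.app (Gc.obj I')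
  have hu : IsIso (η.app (q.obj I)) := isIso_unit_of_kInj F I
  have hu' : IsIso (η.app (q.obj I')) := isIso_unit_of_kInj F I'
  let b : Qh.obj (q.obj I) ≅ X := (quotientCompQhIso A).app I ≪≫ a
  let b' : Qh.obj (q.obj I') ≅ Y := (quotientCompQhIso A).app I' ≪≫ a'
  let E : Q.obj (Gc.obj I) ≅ (RG G).obj X := fI ≪≫ asIso (η.app (q.obj I)) ≪≫ (RG G).mapIso b
  let E' : Q.obj (Gc.obj I') ≅ (RG G).obj Y := fI' ≪≫ asIso (η.app (q.obj I')) ≪≫ (RG G).mapIso b'
  have hb : Qh.map (q.map φ) ≫ b'.hom = b.hom ≫ g := by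
    rw [hφ']; simp [b, b']
  have hE : Q.map (Gc.map φ) ≫ E'.hom = E.hom ≫ (RG G).map g := by
    have e1 : Q.map (Gc.map φ) ≫ fI'.hom = fI.hom ≫ F.map (q.map φ) :=
      (quotientCompQhIso B).inv.naturality (Gc.map φ)
    have e2 : F.map (q.map φ) ≫ η.app (q.obj I') =
        η.app (q.obj I) ≫ (RG G).map (Qh.map (q.map φ)) := η.naturality (q.map φ)
    calc Q.map (Gc.map φ) ≫ fI'.hom ≫ η.app (q.obj I') ≫ (RG G).map b'.hom
        = fI.hom ≫ F.map (q.map φ) ≫ η.app (q.obj I') ≫ (RG G).map b'.hom :=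
          (Category.assoc _ _ _).symm.trans ((congrArg (· ≫ _) e1).trans (Category.assoc _ _ _))
      _ = fI.hom ≫ η.app (q.obj I) ≫ (RG G).map (Qh.map (q.map φ)) ≫ (RG G).map b'.hom :=
          congrArg (fI.hom ≫ ·) ((Category.assoc _ _ _).symm.trans
            ((congrArg (· ≫ _) e2).trans (Category.assoc _ _ _)))
      _ = fI.hom ≫ η.app (q.obj I) ≫ (RG G).map b.hom ≫ (RG G).map g :=
          congrArg (fun t => fI.hom ≫ η.app (q.obj I) ≫ t)
            (((RG G).map_comp _ _).symm.trans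
              ((congrArg (RG G).map hb).trans ((RG G).map_comp _ _)))
      _ = (fI.hom ≫ η.app (q.obj I) ≫ (RG G).map b.hom) ≫ (RG G).map g :=
          ((Category.assoc _ _ _).trans (congrArg (fI.hom ≫ ·) (Category.assoc _ _ _))).symm
  let hIso := homologyFunctorFactors B j
  let e := hIso.symm.app (Gc.obj I) ≪≫ (homologyFunctor B j).mapIso E
  let e' := hIso.symm.app (Gc.obj I') ≪≫ (homologyFunctor B j).mapIso E'
  refine ⟨I, I', hI, hI', φ, a, a', e, e', ?_, ?_⟩
  · have h3 : Qh.map (q.map φ) ≫ (quotientCompQhIso A).hom.app I' =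
        (quotientCompQhIso A).hom.app I ≫ Q.map φ := (quotientCompQhIso A).hom.naturality φ
    apply (cancel_epi ((quotientCompQhIso A).hom.app I)).1
    refine (Category.assoc _ _ _).symm.trans ((congrArg (· ≫ a'.hom) h3.symm).trans ?_)
    exact (Category.assoc _ _ _).trans (hb.trans (Category.assoc _ _ _))
  · have h4 : HomologicalComplex.homologyMap (Gc.map φ) j ≫ hIso.inv.app (Gc.obj I') =
        hIso.inv.app (Gc.obj I) ≫ (homologyFunctor B j).map (Q.map (Gc.map φ)) :=
      hIso.inv.naturality (Gc.map φ)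
    refine (Category.assoc _ _ _).symm.trans ((congrArg (· ≫ _) h4).trans ?_)
    refine (Category.assoc _ _ _).trans (Eq.trans ?_ (Category.assoc _ _ _).symm)
    refine congrArg (hIso.inv.app (Gc.obj I) ≫ ·) ?_
    exact ((homologyFunctor B j).map_comp _ _).symm.trans
      ((congrArg (homologyFunctor B j).map hE).trans ((homologyFunctor B j).map_comp _ _))

variable {C D : Type u} [SmallCategory C] [SmallCategory D]
  {J : GrothendieckTopology C} {K : GrothendieckTopology D}
  {S : Secs J A} {S' : Secs K B} (π : PushData S S' G)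

omit [IsGrothendieckAbelian.{v} A] [G.Additive]
  [(G.mapHomotopyCategory (ComplexShape.up ℤ) ⋙ Qh).HasRightDerivedFunctor
      (HomotopyCategory.quasiIso A (ComplexShape.up ℤ))] [HasDerivedCategory.{w'} B] in
lemma BijOn.congr {X Y X' Y' : DerivedCategory A} {g : X ⟶ Y} {g' : X' ⟶ Y'} (a : X' ≅ X)
    (a' : Y' ≅ Y) (h : g' ≫ a'.hom = a.hom ≫ g) {j : ℤ} {V : D} (hV : BijOn π g j V) :
    BijOn π g' j V := by
  intro T hT
  obtain ⟨ι, Yf, f, h1, h2, h3⟩ := hV T hT
  refine ⟨ι, Yf, f, h1, h2, fun i => ?_⟩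
  have hk : ∀ t : S.PD (π.u (Yf i)) ⟶ X'⟦j⟧,
      t ≫ g'⟦j⟧' = ((t ≫ a.hom⟦j⟧') ≫ g⟦j⟧') ≫ a'.inv⟦j⟧' := fun t => by
    rw [Category.assoc, Category.assoc, ← Functor.map_comp, ← Functor.map_comp,
      ← Category.assoc a.hom, ← h, Category.assoc g', a'.hom_inv_id, Category.comp_id]
  have hb : Function.Bijective fun t : S.PD (π.u (Yf i)) ⟶ X'⟦j⟧ =>
      ((t ≫ a.hom⟦j⟧') ≫ g⟦j⟧') ≫ a'.inv⟦j⟧' :=
    ((((shiftFunctor _ j).mapIso a').symm.homToEquiv).bijective.comp
      ((h3 i).comp ((((shiftFunctor _ j).mapIso a).homToEquiv).bijective)))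
  exact (funext hk : (fun t : S.PD (π.u (Yf i)) ⟶ X'⟦j⟧ => t ≫ g'⟦j⟧') = _) ▸ hb

/-- Injectivity on sections of the cohomology of `RG g`. -/
theorem derived_injective {X Y : DerivedCategory A} (g : X ⟶ Y) (j : ℤ) (V : D)
    (hV : BijOn π g j V) (s : (S'.HDs ((RG G).obj X) j).obj.obj (op V))
    (hs : S'.hmap ((RG G).map g) j V s = 0) : s = 0 := by
  obtain ⟨I, I', _, _, φ, a, a', e, e', h1, h2⟩ := exists_kInj_model G g j
  have hV' := BijOn.congr (G := G) π a a' h1 hV
  have he : ∀ t, ((S'.Φ.map e'.hom).hom.app (op V)).hom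
      (((S'.Φ.map (HomologicalComplex.homologyMap
        ((G.mapHomologicalComplex (ComplexShape.up ℤ)).map φ) j)).hom.app (op V)).hom t) =
      S'.hmap ((RG G).map g) j V (((S'.Φ.map e.hom).hom.app (op V)).hom t) := fun t => by
    have h3 := congrArg (fun z => ((S'.Φ.map z).hom.app (op V)).hom t) h2
    simp only [Functor.map_comp] at h3
    exact h3
  obtain ⟨t, rfl⟩ := (DLim.sections_bijective_of_isIso (S'.Φ.map e.hom) V).2 s
  have ht := push_injective π φ j V hV' t ((DLim.sections_bijective_of_isIso (S'.Φ.map e'.hom) V).1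
    ((he t).trans (hs.trans (map_zero _).symm)))
  rw [ht, map_zero]

/-- Local surjectivity on sections of the cohomology of `RG g`. -/
theorem derived_locallySurjective {X Y : DerivedCategory A} (g : X ⟶ Y) (j : ℤ) (V : D)
    (hV : BijOn π g j V) (s : (S'.HDs ((RG G).obj Y) j).obj.obj (op V)) :
    Presheaf.imageSieve (S'.Φ.map ((homologyFunctor B j).map ((RG G).map g))).hom s ∈ K V := by
  obtain ⟨I, I', _, _, φ, a, a', e, e', h1, h2⟩ := exists_kInj_model G g j
  have hV' := BijOn.congr (G := G) π a a' h1 hV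
  obtain ⟨t, rfl⟩ := (DLim.sections_bijective_of_isIso (S'.Φ.map e'.hom) V).2 s
  refine K.superset_covering (fun W k hk => ?_) (push_locallySurjective π φ j V hV' t)
  obtain ⟨r, hr⟩ := hk
  refine ⟨((S'.Φ.map e.hom).hom.app (op W)).hom r, ?_⟩
  have h3 := congrArg (fun z => ((S'.Φ.map z).hom.app (op W)).hom r) h2
  simp only [Functor.map_comp] at h3
  refine h3.symm.trans ?_
  refine (congrArg ((S'.Φ.map e'.hom).hom.app (op W)).hom hr).trans ?_
  exact ConcreteCategory.congr_hom ((S'.Φ.map e'.hom).hom.naturality k.op) t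

end Groth.Agent.SiteCmpLib.Secs
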