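import Groth.Prelude.Def_CohCx
import Groth.Agent.SiteBase.DLim.Rlim
import Mathlib.Algebra.Homology.DerivedCategory.Fractions
import Mathlib.Algebra.Homology.SingleHomology
import Mathlib.CategoryTheory.Abelian.Refinements
import Mathlib.CategoryTheory.Sites.EpiMono

/-!
# Hypercohomology for categories of sheaves with sections

`Secs J A` records what is needed to treat an abelian category `A` like a category of sheaves of
modules: an exact conservative functor to abelian sheaves and objects representing sections.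
-/

set_option autoImplicit false

universe w v' u' u

open CategoryTheory CategoryTheory.Limits Opposite Pretriangulated DerivedCategory

namespace Groth.Agent.SiteCmpLib

variable {C : Type u} [SmallCategory C]

/-- An abelian category with sheaves of sections. -/
structure Secs (J : GrothendieckTopology C) (A : Type u') [Category.{v'} A] [Abelian A] where
  /-- The underlying abelian sheaf. -/
  Φ : A ⥤ Sheaf J AddCommGrpCat.{u}
  additive : Φ.Additive
  preservesFiniteLimits : PreservesFiniteLimits Φ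
  preservesFiniteColimits : PreservesFiniteColimits Φ
  reflectsIso : Φ.ReflectsIsomorphisms
  /-- The objects representing sections. -/
  P : C ⥤ A
  /-- Sections are morphisms. -/
  sec : ∀ (U : C) (F : A), (P.obj U ⟶ F) ≃+ (Φ.obj F).obj.obj (op U)
  sec_comp : ∀ (U : C) {F G : A} (φ : P.obj U ⟶ F) (g : F ⟶ G),
    sec U G (φ ≫ g) = ((Φ.map g).hom.app (op U)).hom (sec U F φ)
  sec_map : ∀ {U V : C} (f : V ⟶ U) {F : A} (φ : P.obj U ⟶ F),
    sec V F (P.map f ≫ φ) = ((Φ.obj F).obj.map f.op).hom (sec U F φ)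

attribute [instance] Secs.additive Secs.preservesFiniteLimits Secs.preservesFiniteColimits
  Secs.reflectsIso

namespace Secs

variable {J : GrothendieckTopology C} {A : Type u'} [Category.{v'} A] [Abelian A] (S : Secs J A)

lemma exists_lift {A' B : A} (p : A' ⟶ B) [Epi p] {U : C} (s : S.P.obj U ⟶ B) :
    ∃ R ∈ J U, ∀ (V : C) (f : V ⟶ U), R f →
      ∃ a : S.P.obj V ⟶ A', a ≫ p = S.P.map f ≫ s := by
  have : Sheaf.IsLocallySurjective (S.Φ.map p) :=
    (Sheaf.isLocallySurjective_iff_epi' _ (S.Φ.map p)).2 inferInstance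
  refine ⟨_, Presheaf.imageSieve_mem J (S.Φ.map p).hom (U := op U) (S.sec U B s), fun V f hf => ?_⟩
  obtain ⟨t, ht⟩ := hf
  refine ⟨(S.sec V A').symm t, (S.sec V B).injective ?_⟩
  rw [S.sec_comp, AddEquiv.apply_symm_apply, S.sec_map]
  exact ht

/-- The single complex in degree zero. -/
noncomputable abbrev sgl (F : A) :
    CochainComplex A ℤ :=
  (HomologicalComplex.single _ (ComplexShape.up ℤ) 0).obj F

lemma selfIso_inv_homologyMap {F : A}
    {L : CochainComplex A ℤ} (g : sgl F ⟶ L)
    (z : F ⟶ L.cycles 0)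
    (hz : z ≫ L.iCycles 0 =
      (HomologicalComplex.singleObjXSelf (ComplexShape.up ℤ) 0 F).inv ≫ g.f 0) :
    (HomologicalComplex.singleObjHomologySelfIso (ComplexShape.up ℤ) 0 F).inv ≫
      HomologicalComplex.homologyMap g 0 = z ≫ L.homologyπ 0 := by
  rw [← HomologicalComplex.singleObjCyclesSelfIso_inv_homologyπ, Category.assoc,
    HomologicalComplex.homologyπ_naturality, ← Category.assoc]
  congr 1
  rw [← cancel_mono (L.iCycles 0), Category.assoc, HomologicalComplex.cyclesMap_i,
    HomologicalComplex.singleObjCyclesSelfIso_inv_iCycles_assoc, hz]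

lemma exists_cycle {F : A}
    {L : CochainComplex A ℤ} (g : sgl F ⟶ L) :
    ∃ z : F ⟶ L.cycles 0, z ≫ L.iCycles 0 =
      (HomologicalComplex.singleObjXSelf (ComplexShape.up ℤ) 0 F).inv ≫ g.f 0 := by
  refine ⟨L.liftCycles _ 1 (by simp) ?_, L.liftCycles_i _ 1 (by simp) _⟩
  rw [Category.assoc, g.comm]
  simp

variable [HasDerivedCategory.{w} A]

/-- `F ≅ H^0(F[0])`. -/
noncomputable def unitIso : 𝟭 A ≅
    DerivedCategory.singleFunctor A 0 ⋙
      DerivedCategory.homologyFunctor A 0 :=
  (HomologicalComplex.homologyFunctorSingleIso _ (ComplexShape.up ℤ) 0).symm ≪≫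
    Functor.isoWhiskerLeft (HomologicalComplex.single _ (ComplexShape.up ℤ) 0)
      (DerivedCategory.homologyFunctorFactors A 0).symm

lemma unitIso_hom_app (F : A) :
    unitIso.hom.app F =
      (HomologicalComplex.singleObjHomologySelfIso (ComplexShape.up ℤ) 0 F).inv ≫
        (DerivedCategory.homologyFunctorFactors A 0).inv.app (sgl F) :=
  rfl

/-- The morphism of `F` to `H^0(M)` attached to a morphism `F[0] ⟶ M`. -/
noncomputable def h0 {F : A}
    {M : DerivedCategory A}
    (φ : (DerivedCategory.singleFunctor A 0).obj F ⟶ M) :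
    F ⟶ (DerivedCategory.homologyFunctor A 0).obj M :=
  unitIso.hom.app F ≫ (DerivedCategory.homologyFunctor A 0).map φ

lemma h0_add {F : A} {M : DerivedCategory A}
    (φ ψ : (DerivedCategory.singleFunctor A 0).obj F ⟶ M) :
    h0 (φ + ψ) = h0 φ + h0 ψ := by
  simp [h0]

lemma h0_comp {F : A} {M N : DerivedCategory A}
    (φ : (DerivedCategory.singleFunctor A 0).obj F ⟶ M) (g : M ⟶ N) :
    h0 (φ ≫ g) = h0 φ ≫ (DerivedCategory.homologyFunctor A 0).map g := by
  simp [h0]

lemma h0_precomp {F G : A}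
    {M : DerivedCategory A} (a : G ⟶ F)
    (φ : (DerivedCategory.singleFunctor A 0).obj F ⟶ M) :
    h0 ((DerivedCategory.singleFunctor A 0).map a ≫ φ) = a ≫ h0 φ := by
  have h := unitIso.hom.naturality (F := 𝟭 A) a
  simp only [Functor.id_map, Functor.comp_map] at h
  simp only [h0, Functor.map_comp]
  exact ((Category.assoc _ _ _).symm.trans
    (congrArg (· ≫ _) h.symm)).trans (Category.assoc _ _ _)

lemma h0_Q_map {F : A}
    {L : CochainComplex A ℤ} (g : sgl F ⟶ L)
    (z : F ⟶ L.cycles 0)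
    (hz : z ≫ L.iCycles 0 =
      (HomologicalComplex.singleObjXSelf (ComplexShape.up ℤ) 0 F).inv ≫ g.f 0) :
    h0 (F := F) (DerivedCategory.Q.map g) = z ≫ L.homologyπ 0 ≫
      (DerivedCategory.homologyFunctorFactors A 0).inv.app L := by
  refine Eq.trans ?_ ((congrArg (· ≫ _) (selfIso_inv_homologyMap g z hz)).trans (Category.assoc _ _ _))
  refine Eq.trans ?_ (Category.assoc _ _ _).symm
  refine (congrArg (· ≫ _) (unitIso_hom_app F)).trans ?_
  exact (Category.assoc _ _ _).trans (congrArg (_ ≫ ·)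
    ((DerivedCategory.homologyFunctorFactors A 0).inv.naturality g).symm)


/-- Locally injective. -/
lemma exists_cover_h0_eq_zero {U : C} {M : DerivedCategory A}
    (φ : (DerivedCategory.singleFunctor _ 0).obj (S.P.obj U) ⟶ M) (hφ : h0 φ = 0) :
    ∃ R ∈ J U, ∀ (V : C) (f : V ⟶ U), R f →
      (DerivedCategory.singleFunctor _ 0).map (S.P.map f) ≫ φ = 0 := by
  obtain ⟨i⟩ : Nonempty (DerivedCategory.Q.obj (DerivedCategory.Q.objPreimage M) ≅ M) :=
    ⟨DerivedCategory.Q.objObjPreimageIso M⟩
  obtain ⟨L, g, s, hs, hg⟩ := DerivedCategory.left_fac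
    (X := sgl (S.P.obj U)) (φ ≫ i.inv)
  obtain ⟨z, hz⟩ := exists_cycle g
  have h1 : h0 (F := S.P.obj U) (DerivedCategory.Q.map g) = 0 := by
    have h2 : DerivedCategory.Q.map g = φ ≫ (i.inv ≫ DerivedCategory.Q.map s) := by
      refine Eq.trans ?_ (Category.assoc φ i.inv (DerivedCategory.Q.map s))
      refine (Eq.trans ?_ (congrArg (· ≫ DerivedCategory.Q.map s) hg.symm))
      exact (IsIso.inv_hom_id (DerivedCategory.Q.map s) ▸ (Category.comp_id _).symm :
        DerivedCategory.Q.map g = DerivedCategory.Q.map g ≫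
          inv (DerivedCategory.Q.map s) ≫ DerivedCategory.Q.map s).trans (Category.assoc _ _ _).symm
    refine (congrArg (fun t => h0 (F := S.P.obj U) t) h2).trans ((h0_comp φ _).trans ?_)
    rw [hφ, zero_comp]
  have hzπ : z ≫ L.homologyπ 0 = 0 := by
    have h2 := (Category.assoc z (L.homologyπ 0) _).trans ((h0_Q_map g z hz).symm.trans h1)
    exact (cancel_mono ((DerivedCategory.homologyFunctorFactors
      A 0).inv.app L)).1 (h2.trans zero_comp.symm)
  have hex : (ShortComplex.mk (L.toCycles (-1) 0) (L.homologyπ 0) (by simp)).Exact :=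
    ShortComplex.exact_of_g_is_cokernel _ (L.homologyIsCokernel (-1) 0 (by simp))
  obtain ⟨A', p, hp, x₁, hx⟩ := hex.exact_up_to_refinements z hzπ
  obtain ⟨R, hR, hlift⟩ := exists_lift S p (𝟙 (S.P.obj U))
  refine ⟨R, hR, fun V f hf => ?_⟩
  obtain ⟨a, ha⟩ := hlift V f hf
  rw [Category.comp_id] at ha
  have hw : (S.P.map f) ≫
      (HomologicalComplex.singleObjXSelf (ComplexShape.up ℤ) 0 (S.P.obj U)).inv ≫
        g.f 0 = (a ≫ x₁) ≫ L.d (-1) 0 := by
    rw [← hz, ← ha, ← L.toCycles_i (-1) 0]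
    simp only [Category.assoc]
    rw [reassoc_of% hx]
  let w := a ≫ x₁
  let g' : sgl (S.P.obj V) ⟶ L :=
    (HomologicalComplex.single _ (ComplexShape.up ℤ) 0).map (S.P.map f) ≫ g
  let h : ∀ k l : ℤ, (ComplexShape.up ℤ).Rel l k →
      ((sgl (S.P.obj V)).X k ⟶ L.X l) := fun k l r =>
    if hk : k = 0 then
      (HomologicalComplex.singleObjXIsoOfEq (ComplexShape.up ℤ) 0 _ k hk).hom ≫ w ≫
        (L.XIsoOfEq (show (-1 : ℤ) = l by simp at r; omega)).hom
    else 0
  have e : g' = Homotopy.nullHomotopicMap' h := by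
    apply HomologicalComplex.from_single_hom_ext
    rw [Homotopy.nullHomotopicMap'_f (k₂ := -1) (k₁ := 0) (k₀ := 1) (by simp) (by simp)]
    have : (sgl (S.P.obj V)).d 0 1 = 0 := HomologicalComplex.single_obj_d ..
    rw [this, zero_comp, zero_add]
    simp only [h, g', HomologicalComplex.comp_f, HomologicalComplex.single_map_f_self,
      Category.assoc, w] at hw ⊢
    rw [dif_pos trivial, hw]
    simp [HomologicalComplex.singleObjXSelf]
  have hg' : DerivedCategory.Q.map g' = 0 := by
    exact (congrArg DerivedCategory.Q.map e).trans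
      ((DerivedCategory.Q_map_eq_of_homotopy _ (Homotopy.nullHomotopy' h)).trans (Functor.map_zero _ _ _))
  refine (cancel_mono i.inv).1 ?_
  rw [zero_comp, Category.assoc]
  refine (congrArg ((DerivedCategory.singleFunctor _ 0).map (S.P.map f) ≫ ·) hg).trans ?_
  refine ((Category.assoc _ _ _).symm.trans (congrArg (· ≫ inv (DerivedCategory.Q.map s))
    ((DerivedCategory.Q.map_comp _ _).symm.trans hg'))).trans ?_
  exact zero_comp

/-- Locally surjective. -/
lemma exists_cover_h0_lift {U : C} {M : DerivedCategory A}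
    (s : S.P.obj U ⟶ (DerivedCategory.homologyFunctor _ 0).obj M) :
    ∃ R ∈ J U, ∀ (V : C) (f : V ⟶ U), R f →
      ∃ φ : (DerivedCategory.singleFunctor _ 0).obj (S.P.obj V) ⟶ M,
        h0 φ = S.P.map f ≫ s := by
  obtain ⟨L, ⟨i⟩⟩ : ∃ L, Nonempty (DerivedCategory.Q.obj L ≅ M) :=
    ⟨_, ⟨DerivedCategory.Q.objObjPreimageIso M⟩⟩
  let H := DerivedCategory.homologyFunctor A 0
  let ei : L.homology 0 ≅ H.obj M :=
    ((DerivedCategory.homologyFunctorFactors A 0).app L).symm ≪≫ H.mapIso i
  let q := L.homologyπ 0 ≫ ei.hom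
  have : Epi q := epi_comp _ _
  obtain ⟨R, hR, hlift⟩ := exists_lift S q s
  refine ⟨R, hR, fun V f hf => ?_⟩
  obtain ⟨a, ha⟩ := hlift V f hf
  let g : sgl (S.P.obj V) ⟶ L :=
    HomologicalComplex.mkHomFromSingle (a ≫ L.iCycles 0) (fun k _ => by simp)
  refine ⟨DerivedCategory.Q.map g ≫ i.hom, ?_⟩
  refine ((h0_comp (F := S.P.obj V) (DerivedCategory.Q.map g) i.hom).trans
    (congrArg (· ≫ H.map i.hom) (h0_Q_map g a (by simp [g])))).trans ?_
  rw [← ha]
  simp [q, H, ei]
  all_goals exact congrArg (a ≫ ·) (Category.assoc _ _ _)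


end Secs

end Groth.Agent.SiteCmpLib
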