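import Groth.Agent.SiteCmpLib.Secs.Cycles
import Mathlib.Algebra.Homology.DerivedCategory.KInjective
import Mathlib.Algebra.Homology.HomotopyCategory.Shift

/-!
# Classes in K-injective complexes
-/

set_option autoImplicit false

universe w v' u' u

open CategoryTheory CategoryTheory.Limits Opposite DerivedCategory

namespace Groth.Agent.SiteCmpLib

section

variable {A : Type u'} [Category.{v'} A] [Abelian A] [HasDerivedCategory.{w} A]

/-- The map of complexes given by a cycle in degree zero. -/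
noncomputable def mkS {P : A} {I : CochainComplex A ℤ} (z : P ⟶ I.X 0) (h : z ≫ I.d 0 1 = 0) :
    (HomologicalComplex.single A (ComplexShape.up ℤ) 0).obj P ⟶ I :=
  HomologicalComplex.mkHomFromSingle (c := ComplexShape.up ℤ) (j := 0) z
    (fun k hk => by obtain rfl : k = 1 := by simp at hk; omega
                    exact h)

omit [HasDerivedCategory.{w} A] in
@[simp]
lemma mkS_f {P : A} {I : CochainComplex A ℤ} (z : P ⟶ I.X 0) (h : z ≫ I.d 0 1 = 0) :
    (mkS z h).f 0 = (HomologicalComplex.singleObjXSelf (ComplexShape.up ℤ) 0 P).hom ≫ z :=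
  HomologicalComplex.mkHomFromSingle_f _ _

omit [HasDerivedCategory.{w} A] in
lemma mkS_comp {P : A} {I I' : CochainComplex A ℤ} (φ : I ⟶ I') (z : P ⟶ I.X 0)
    (h : z ≫ I.d 0 1 = 0) (h' : (z ≫ φ.f 0) ≫ I'.d 0 1 = 0) :
    mkS z h ≫ φ = mkS (z ≫ φ.f 0) h' :=
  HomologicalComplex.from_single_hom_ext (by simp)

omit [HasDerivedCategory.{w} A] in
lemma mkS_sub {P : A} {I : CochainComplex A ℤ} (z z' : P ⟶ I.X 0) (h : z ≫ I.d 0 1 = 0)
    (h' : z' ≫ I.d 0 1 = 0) (hd : (z - z') ≫ I.d 0 1 = 0) :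
    mkS (z - z') hd = mkS z h - mkS z' h' :=
  HomologicalComplex.from_single_hom_ext (by simp [Preadditive.comp_sub])

/-- The map in the derived category given by a cycle in degree zero. -/
noncomputable def cycMap {P : A} {I : CochainComplex A ℤ} (z : P ⟶ I.X 0) (h : z ≫ I.d 0 1 = 0) :
    (singleFunctor A 0).obj P ⟶ Q.obj I :=
  DerivedCategory.Q.map (mkS z h)

lemma cycMap_comp {P : A} {I I' : CochainComplex A ℤ} (φ : I ⟶ I') (z : P ⟶ I.X 0)
    (h : z ≫ I.d 0 1 = 0) (h' : (z ≫ φ.f 0) ≫ I'.d 0 1 = 0) :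
    cycMap z h ≫ Q.map φ = cycMap (z ≫ φ.f 0) h' :=
  (Q.map_comp _ _).symm.trans (congrArg Q.map (mkS_comp φ z h h'))

lemma cycMap_sub {P : A} {I : CochainComplex A ℤ} (z z' : P ⟶ I.X 0) (h : z ≫ I.d 0 1 = 0)
    (h' : z' ≫ I.d 0 1 = 0) (hd : (z - z') ≫ I.d 0 1 = 0) :
    cycMap (z - z') hd = cycMap z h - cycMap z' h' :=
  (congrArg Q.map (mkS_sub z z' h h' hd)).trans (Functor.map_sub _)

lemma cycMap_surjective {P : A} (I : CochainComplex A ℤ) [I.IsKInjective]
    (a' : (singleFunctor A 0).obj P ⟶ Q.obj I) : ∃ z h, cycMap (I := I) z h = a' := by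
  let a : Q.obj ((HomologicalComplex.single A (ComplexShape.up ℤ) 0).obj P) ⟶ Q.obj I := a'
  obtain ⟨g', hg'⟩ := (CochainComplex.IsKInjective.Qh_map_bijective
    ((HomotopyCategory.quotient A (ComplexShape.up ℤ)).obj
      ((HomologicalComplex.single A (ComplexShape.up ℤ) 0).obj P)) I).2
      ((quotientCompQhIso A).hom.app ((HomologicalComplex.single A (ComplexShape.up ℤ) 0).obj P) ≫
        a ≫ (quotientCompQhIso A).inv.app I)
  obtain ⟨g, rfl⟩ := (HomotopyCategory.quotient A (ComplexShape.up ℤ)).map_surjective g'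
  have hz : ((HomologicalComplex.singleObjXSelf (ComplexShape.up ℤ) 0 P).inv ≫ g.f 0) ≫ I.d 0 1 = 0 := by
    rw [Category.assoc, g.comm]; simp
  refine ⟨_, hz, ?_⟩
  have hg : DerivedCategory.Q.map g = a := by
    have h1 : DerivedCategory.Qh.map ((HomotopyCategory.quotient A (ComplexShape.up ℤ)).map g) ≫
        (quotientCompQhIso A).hom.app I =
        (quotientCompQhIso A).hom.app _ ≫ Q.map g := (quotientCompQhIso A).hom.naturality g
    rw [hg', Category.assoc, Category.assoc, Iso.inv_hom_id_app] at h1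
    refine ((cancel_epi _).1 h1).symm.trans ?_
    exact Category.comp_id a
  refine Eq.trans (congrArg Q.map ?_) hg
  apply HomologicalComplex.from_single_hom_ext
  simp

lemma bdry_of_cycMap_eq_zero {P : A} (I : CochainComplex A ℤ) [I.IsKInjective] (z : P ⟶ I.X 0)
    (h : z ≫ I.d 0 1 = 0) (h0 : cycMap z h = 0) :
    ∃ w : P ⟶ I.X (-1), w ≫ I.d (-1) 0 = z := by
  let g := mkS z h
  have hq : (HomotopyCategory.quotient A (ComplexShape.up ℤ)).map g =
      (HomotopyCategory.quotient A (ComplexShape.up ℤ)).map 0 := by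
    apply (CochainComplex.IsKInjective.Qh_map_bijective _ I).1
    have h1 := (quotientCompQhIso A).hom.naturality g
    have h2 := (quotientCompQhIso A).hom.naturality
      (0 : (HomologicalComplex.single A (ComplexShape.up ℤ) 0).obj P ⟶ I)
    refine (cancel_mono ((quotientCompQhIso A).hom.app I)).1 ?_
    refine h1.trans (Eq.trans ?_ h2.symm)
    refine congrArg ((quotientCompQhIso A).hom.app _ ≫ ·) ?_
    have h0' : DerivedCategory.Q.map g = 0 := h0
    rw [h0', Functor.map_zero]
  let hom := HomotopyCategory.homotopyOfEq g 0 hq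
  refine ⟨(HomologicalComplex.singleObjXSelf (ComplexShape.up ℤ) 0 P).inv ≫ hom.hom 0 (-1), ?_⟩
  have h1 := hom.comm 0
  rw [dNext_eq _ (show (ComplexShape.up ℤ).Rel 0 1 by simp),
    prevD_eq _ (show (ComplexShape.up ℤ).Rel (-1) 0 by simp),
    HomologicalComplex.single_obj_d, zero_comp, zero_add, HomologicalComplex.zero_f,
    add_zero] at h1
  rw [Category.assoc, ← h1]
  simp [g]

lemma cycMap_eq_zero_of_bdry {P : A} (I : CochainComplex A ℤ) (z : P ⟶ I.X 0)
    (h : z ≫ I.d 0 1 = 0) (w : P ⟶ I.X (-1)) (hw : w ≫ I.d (-1) 0 = z) : cycMap z h = 0 := by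
  let hh : ∀ k l : ℤ, (ComplexShape.up ℤ).Rel l k →
      (((HomologicalComplex.single A (ComplexShape.up ℤ) 0).obj P).X k ⟶ I.X l) := fun k l r =>
    if hk : k = 0 then
      (HomologicalComplex.singleObjXIsoOfEq (ComplexShape.up ℤ) 0 _ k hk).hom ≫ w ≫
        (I.XIsoOfEq (show (-1 : ℤ) = l by simp at r; omega)).hom
    else 0
  refine (congrArg DerivedCategory.Q.map (?_ : _ = Homotopy.nullHomotopicMap' hh)).trans
    ((DerivedCategory.Q_map_eq_of_homotopy _ (Homotopy.nullHomotopy' hh)).trans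
      (Functor.map_zero _ _ _))
  apply HomologicalComplex.from_single_hom_ext
  rw [Homotopy.nullHomotopicMap'_f (k₂ := -1) (k₁ := 0) (k₀ := 1) (by simp) (by simp)]
  have : ((HomologicalComplex.single A (ComplexShape.up ℤ) 0).obj P).d 0 1 = 0 :=
    HomologicalComplex.single_obj_d ..
  rw [this, zero_comp, zero_add]
  simp [hh, HomologicalComplex.singleObjXSelf, hw]

end

end Groth.Agent.SiteCmpLib
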