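import Groth.Agent.SiteCmpLib.Secs.KInj
import Groth.Agent.SiteCmpLib.Secs.Cls
import Groth.Agent.TriCat.DerivedOfAdjunction
import Groth.Agent.TriCat.KInjRes

/-!
# Direct images of K-injective complexes and sections of their cohomology
-/

set_option autoImplicit false

universe w w' v' u' v'' u'' u

open CategoryTheory CategoryTheory.Limits Opposite DerivedCategory

namespace Groth.Agent.SiteCmpLib.Secs

variable {A : Type u'} [Category.{v'} A] [Abelian A] [HasDerivedCategory.{w} A]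

omit [HasDerivedCategory.{w} A] in
lemma comp_smul_d_iff {P : A} (I : CochainComplex A ℤ) {a a' : ℤ} (ha : a = a') (b b' : ℤ)
    (hb : b = b') (ε : ℤˣ) (z : P ⟶ I.X a) :
    (z ≫ (I.XIsoOfEq ha).hom) ≫ (ε • I.d a' b') = 0 ↔ z ≫ I.d a b = 0 := by
  subst ha hb
  rw [Linear.comp_units_smul, smul_eq_zero_iff_eq]
  simp

omit [HasDerivedCategory.{w} A] in
lemma exists_bdry_iff {P : A} (I : CochainComplex A ℤ) {a a' : ℤ} (ha : a = a') (b b' : ℤ)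
    (hb : b = b') (ε : ℤˣ) (z : P ⟶ I.X a) :
    (∃ w : P ⟶ I.X b', w ≫ (ε • I.d b' a') = z ≫ (I.XIsoOfEq ha).hom) ↔
      ∃ w : P ⟶ I.X b, w ≫ I.d b a = z := by
  subst ha hb
  constructor
  · rintro ⟨w, hw⟩
    exact ⟨ε • w, by simpa [Linear.units_smul_comp, Linear.comp_units_smul] using hw⟩
  · rintro ⟨w, rfl⟩
    exact ⟨ε • w, by
      simp [Linear.units_smul_comp, Linear.comp_units_smul, smul_smul, Int.units_mul_self]⟩

/-- A degree-`j` cochain as a degree-zero cochain of the shift. -/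
noncomputable def toS {P : A} {I : CochainComplex A ℤ} (j : ℤ) (z : P ⟶ I.X j) :
    P ⟶ (I⟦j⟧).X 0 :=
  z ≫ (I.shiftFunctorObjXIso j 0 j (by simp)).inv

omit [HasDerivedCategory.{w} A] in
lemma toS_d_iff {P : A} {I : CochainComplex A ℤ} (j : ℤ) (z : P ⟶ I.X j) :
    toS j z ≫ (I⟦j⟧).d 0 1 = 0 ↔ z ≫ I.d j (j + 1) = 0 :=
  comp_smul_d_iff I (show j = 0 + j by simp) (j + 1) (1 + j) (by omega) j.negOnePow z

omit [HasDerivedCategory.{w} A] in
lemma toS_bdry_iff {P : A} {I : CochainComplex A ℤ} (j : ℤ) (z : P ⟶ I.X j) :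
    (∃ w, w ≫ (I⟦j⟧).d (-1) 0 = toS j z) ↔ ∃ w, w ≫ I.d (j - 1) j = z :=
  exists_bdry_iff I (show j = 0 + j by simp) (j - 1) (-1 + j) (by omega) j.negOnePow z

omit [HasDerivedCategory.{w} A] in
lemma toS_map {P : A} {I I' : CochainComplex A ℤ} (φ : I ⟶ I') (j : ℤ) (z : P ⟶ I.X j) :
    toS j z ≫ (φ⟦j⟧').f 0 = toS j (z ≫ φ.f j) := by
  have key : ∀ (a : ℤ) (ha : j = a), (z ≫ (I.XIsoOfEq ha).hom) ≫ φ.f a =
      (z ≫ φ.f j) ≫ (I'.XIsoOfEq ha).hom := by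
    intro a ha; subst ha; simp
  exact key (0 + j) (by simp)

/-- The class in `Hom(P, (Q I)⟦j⟧)` of a cycle in degree `j`. -/
noncomputable def cycMapJ {P : A} {I : CochainComplex A ℤ} (j : ℤ) (z : P ⟶ I.X j)
    (h : z ≫ I.d j (j + 1) = 0) : (singleFunctor A 0).obj P ⟶ (Q.obj I)⟦j⟧ :=
  SiteCmpLib.cycMap (I := I⟦j⟧) (toS j z) ((toS_d_iff j z).2 h) ≫
    (Q.commShiftIso j).hom.app I

lemma cycMapJ_comp {P : A} {I I' : CochainComplex A ℤ} (φ : I ⟶ I') (j : ℤ) (z : P ⟶ I.X j)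
    (h : z ≫ I.d j (j + 1) = 0) (h' : (z ≫ φ.f j) ≫ I'.d j (j + 1) = 0) :
    cycMapJ j z h ≫ (Q.map φ)⟦j⟧' = cycMapJ j (z ≫ φ.f j) h' := by
  have hd : (toS j z ≫ (φ⟦j⟧').f 0) ≫ (I'⟦j⟧).d 0 1 = 0 := by
    rw [toS_map]; exact (toS_d_iff j _).2 h'
  have h1 := SiteCmpLib.cycMap_comp (φ⟦j⟧') (toS j z) ((toS_d_iff j z).2 h) hd
  have hn : Q.map (φ⟦j⟧') ≫ (Q.commShiftIso j).hom.app I' =
      (Q.commShiftIso j).hom.app I ≫ (Q.map φ)⟦j⟧' :=
    (Q.commShiftIso j).hom.naturality φ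
  rw [cycMapJ, cycMapJ]
  refine (Category.assoc _ _ _).trans ((congrArg (_ ≫ ·) hn.symm).trans ?_)
  refine (Category.assoc _ _ _).symm.trans (congrArg (· ≫ _) (h1.trans ?_))
  simp only [toS_map]

lemma cycMapJ_sub {P : A} {I : CochainComplex A ℤ} (j : ℤ) (z z' : P ⟶ I.X j)
    (h : z ≫ I.d j (j + 1) = 0) (h' : z' ≫ I.d j (j + 1) = 0)
    (hd : (z - z') ≫ I.d j (j + 1) = 0) :
    cycMapJ j (z - z') hd = cycMapJ j z h - cycMapJ j z' h' := by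
  have e : toS j (z - z') = toS j z - toS j z' := Preadditive.sub_comp _ _ _
  rw [cycMapJ, cycMapJ, cycMapJ, ← Preadditive.sub_comp,
    ← SiteCmpLib.cycMap_sub _ _ _ _ (by rw [← e]; exact (toS_d_iff j _).2 hd)]
  simp only [e]

lemma cycMapJ_surjective {P : A} (I : CochainComplex A ℤ) [I.IsKInjective] (j : ℤ)
    (a : (singleFunctor A 0).obj P ⟶ (Q.obj I)⟦j⟧) : ∃ z h, cycMapJ (I := I) j z h = a := by
  obtain ⟨z₀, hz₀, e⟩ := SiteCmpLib.cycMap_surjective (I⟦j⟧) (a ≫ (Q.commShiftIso j).inv.app I)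
  obtain ⟨z, rfl⟩ : ∃ z, toS j z = z₀ :=
    ⟨z₀ ≫ (I.shiftFunctorObjXIso j 0 j (by simp)).hom,
      (Category.assoc _ _ _).trans ((congrArg (z₀ ≫ ·) (Iso.hom_inv_id _)).trans (Category.comp_id _))⟩
  refine ⟨z, (toS_d_iff j z).1 hz₀, ?_⟩
  rw [cycMapJ, e, Category.assoc, Iso.inv_hom_id_app]
  exact Category.comp_id a

lemma bdry_of_cycMapJ_eq_zero {P : A} (I : CochainComplex A ℤ) [I.IsKInjective] (j : ℤ)
    (z : P ⟶ I.X j) (h : z ≫ I.d j (j + 1) = 0) (h0 : cycMapJ j z h = 0) :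
    ∃ w : P ⟶ I.X (j - 1), w ≫ I.d (j - 1) j = z :=
  (toS_bdry_iff j z).1 (SiteCmpLib.bdry_of_cycMap_eq_zero (I⟦j⟧) _ _
    ((cancel_mono ((Q.commShiftIso j).hom.app I)).1 (h0.trans zero_comp.symm)))

lemma cycMapJ_eq_zero_of_bdry {P : A} (I : CochainComplex A ℤ) (j : ℤ) (z : P ⟶ I.X j)
    (h : z ≫ I.d j (j + 1) = 0) (w : P ⟶ I.X (j - 1)) (hw : w ≫ I.d (j - 1) j = z) :
    cycMapJ j z h = 0 := by
  obtain ⟨w', hw'⟩ := (toS_bdry_iff j z).2 ⟨w, hw⟩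
  rw [cycMapJ, SiteCmpLib.cycMap_eq_zero_of_bdry (I⟦j⟧) _ _ w' hw', zero_comp]

variable {C D : Type u} [SmallCategory C] [SmallCategory D]
  {J : GrothendieckTopology C} {K : GrothendieckTopology D}
  {B : Type u''} [Category.{v''} B] [Abelian B] [HasDerivedCategory.{w'} B]
  (S : Secs J A) (S' : Secs K B)

/-- A functor `G` which is computed on sections by an object map `u`. -/
structure PushData (G : A ⥤ B) where
  /-- The underlying map of objects. -/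
  u : D → C
  /-- Sections of `G M` over `V` are sections of `M` over `u V`. -/
  τ : ∀ (V : D) (M : A), (S'.P.obj V ⟶ G.obj M) ≃+ (S.P.obj (u V) ⟶ M)
  τ_comp : ∀ (V : D) {M N : A} (a : S'.P.obj V ⟶ G.obj M) (g : M ⟶ N),
    τ V N (a ≫ G.map g) = τ V M a ≫ g

variable {S S'} {G : A ⥤ B} [G.Additive] (π : PushData S S' G)

/-- `φ` is bijective on degree-`j` classes on good refinements over `V`. -/
def BijOn {X Y : DerivedCategory A} (g : X ⟶ Y) (j : ℤ) (V : D) : Prop :=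
  ∀ T ∈ K V, ∃ (ι : Type u) (Yf : ι → D) (f : ∀ i, Yf i ⟶ V), (∀ i, T.arrows (f i)) ∧
    Sieve.ofArrows Yf f ∈ K V ∧
    ∀ i, Function.Bijective (fun a : S.PD (π.u (Yf i)) ⟶ X⟦j⟧ => a ≫ g⟦j⟧')

variable {I I' : CochainComplex A ℤ} [I.IsKInjective] [I'.IsKInjective] (φ : I ⟶ I') (j : ℤ)

omit [I.IsKInjective] [I'.IsKInjective] in
lemma τ_cyc (L : CochainComplex A ℤ) {V : D}
    (z : S'.P.obj V ⟶ ((G.mapHomologicalComplex (ComplexShape.up ℤ)).obj L).X j) :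
    S'.Cyc ((G.mapHomologicalComplex (ComplexShape.up ℤ)).obj L) j V z ↔
      π.τ V _ z ≫ L.d j (j + 1) = 0 := by
  have e : π.τ V _ (z ≫ G.map (L.d j (j + 1))) = π.τ V _ z ≫ L.d j (j + 1) := π.τ_comp V _ _
  refine ⟨fun h => e.symm.trans ((congrArg _ h).trans (map_zero _)), fun h => ?_⟩
  exact (π.τ V _).injective ((e.trans h).trans (map_zero _).symm)

omit [I.IsKInjective] [I'.IsKInjective] in
lemma τ_bdry (L : CochainComplex A ℤ) {V : D}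
    (z : S'.P.obj V ⟶ ((G.mapHomologicalComplex (ComplexShape.up ℤ)).obj L).X j) :
    S'.Bdry ((G.mapHomologicalComplex (ComplexShape.up ℤ)).obj L) j V z ↔
      ∃ w, w ≫ L.d (j - 1) j = π.τ V _ z := by
  constructor
  · rintro ⟨w, rfl⟩
    exact ⟨π.τ V _ w, (π.τ_comp V w _).symm⟩
  · rintro ⟨w, hw⟩
    refine ⟨(π.τ V _).symm w, (π.τ V _).injective ?_⟩
    exact (π.τ_comp V _ _).trans (by rw [AddEquiv.apply_symm_apply, hw])

/-- Injectivity on sections of `H^j(G I) → H^j(G I')`. -/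
theorem push_injective (V : D) (hV : BijOn π (Q.map φ) j V)
    (s : (S'.Φ.obj (((G.mapHomologicalComplex (ComplexShape.up ℤ)).obj I).homology j)).obj.obj (op V))
    (hs : ((S'.Φ.map (HomologicalComplex.homologyMap
      ((G.mapHomologicalComplex (ComplexShape.up ℤ)).map φ) j)).hom.app (op V)).hom s = 0) :
    s = 0 := by
  refine S'.sections_injective_of_cyc _ V (fun T hT => ?_) s hs
  obtain ⟨ι, Yf, f, h1, h2, h3⟩ := hV T hT
  refine ⟨ι, Yf, f, h1, h2, fun i z hz hb => (τ_bdry π j I z).2 ?_⟩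
  have hz' := (τ_cyc π j I z).1 hz
  obtain ⟨w, hw⟩ := (τ_bdry π j I' _).1 hb
  have hzφ : π.τ (Yf i) _ z ≫ φ.f j = π.τ (Yf i) _ (z ≫ G.map (φ.f j)) := (π.τ_comp _ _ _).symm
  refine bdry_of_cycMapJ_eq_zero I j _ hz' ((h3 i).1 ?_)
  show cycMapJ j _ hz' ≫ (Q.map φ)⟦j⟧' = 0 ≫ (Q.map φ)⟦j⟧'
  rw [zero_comp, cycMapJ_comp φ j _ hz' (by rw [Category.assoc, φ.comm, reassoc_of% hz', zero_comp])]
  refine cycMapJ_eq_zero_of_bdry I' j _ _ w (hw.trans hzφ.symm)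

/-- Local surjectivity on sections of `H^j(G I) → H^j(G I')`. -/
theorem push_locallySurjective (V : D) (hV : BijOn π (Q.map φ) j V)
    (s' : (S'.Φ.obj (((G.mapHomologicalComplex (ComplexShape.up ℤ)).obj I').homology j)).obj.obj (op V)) :
    Presheaf.imageSieve (S'.Φ.map (HomologicalComplex.homologyMap
      ((G.mapHomologicalComplex (ComplexShape.up ℤ)).map φ) j)).hom s' ∈ K V := by
  refine S'.sections_locallySurjective_of_cyc _ V (fun T hT => ?_) s'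
  obtain ⟨ι, Yf, f, h1, h2, h3⟩ := hV T hT
  refine ⟨ι, Yf, f, h1, h2, fun i z' hz' => ?_⟩
  have hy := (τ_cyc π j I' z').1 hz'
  obtain ⟨a, ha⟩ := (h3 i).2 (cycMapJ j _ hy)
  obtain ⟨z₀, hz₀, rfl⟩ := cycMapJ_surjective I j a
  refine ⟨(π.τ (Yf i) _).symm z₀, (τ_cyc π j I _).2 (by rw [AddEquiv.apply_symm_apply, hz₀]),
    (τ_bdry π j I' _).2 ?_⟩
  let z'' : S'.P.obj (Yf i) ⟶ G.obj (I'.X j) := z'
  have e : π.τ (Yf i) _ ((π.τ (Yf i) _).symm z₀ ≫ G.map (φ.f j) - z'') =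
      z₀ ≫ φ.f j - π.τ (Yf i) _ z'' := by
    rw [map_sub, π.τ_comp, AddEquiv.apply_symm_apply]
  have hφ : (z₀ ≫ φ.f j) ≫ I'.d j (j + 1) = 0 := by
    rw [Category.assoc, φ.comm, reassoc_of% hz₀, zero_comp]
  obtain ⟨w, hw⟩ := bdry_of_cycMapJ_eq_zero I' j (z₀ ≫ φ.f j - π.τ (Yf i) _ z')
    (by rw [Preadditive.sub_comp, hφ, hy, sub_zero])
    (by
      rw [cycMapJ_sub j _ _ hφ hy, sub_eq_zero, ← cycMapJ_comp φ j z₀ hz₀ hφ]
      exact ha)
  exact ⟨w, hw.trans e.symm⟩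

end Groth.Agent.SiteCmpLib.Secs
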